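import Groth.Agent.H18Et.FEtNormal
import Mathlib.AlgebraicGeometry.Noetherian
import Mathlib.RingTheory.Nilpotent.Lemmas

/-!
Schemes with integral local rings and their irreducible and connected components.
-/

set_option autoImplicit false
set_option linter.style.haveILetI false

open CategoryTheory AlgebraicGeometry TopologicalSpace Topology

universe u

namespace Groth.Agent.H06GeomInt

/-- A point with integral local ring lies on only one irreducible component. -/
theorem component_unique {X : Scheme.{u}} {x : X} (h : IsDomain (X.presheaf.stalk x)) {Z Z' : Set X}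
    (hZ : Z ∈ irreducibleComponents X) (hZ' : Z' ∈ irreducibleComponents X) (hx : x ∈ Z) (hx' : x ∈ Z') :
    Z = Z' := by
  obtain ⟨w, hw, hmax⟩ := @H18Et.FEtNormal.exists_maximal_generalization _ x h
  have key : ∀ {S : Set X}, S ∈ irreducibleComponents X → x ∈ S → S = closure {w} := by
    intro S hS hxS
    have hcl : IsClosed S := isClosed_of_mem_irreducibleComponents S hS
    have hg := hS.1.isGenericPoint_genericPoint hcl
    have h1 : S ⊆ closure {w} := by
      rw [← hg.def]
      exact closure_minimal (Set.singleton_subset_iff.2 (hmax _ (hg.specializes hxS)).mem_closure) isClosed_closure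
    exact Set.Subset.antisymm h1 (hS.2 isIrreducible_singleton.closure h1)
  rw [key hZ hx, key hZ' hx']

/-- A reduced scheme is integral at a point lying on only one irreducible component. -/
theorem isDomain_stalk_of_unique {X : Scheme.{u}} [IsReduced X] {x : X}
    (h : ∀ Z ∈ irreducibleComponents X, ∀ Z' ∈ irreducibleComponents X, x ∈ Z → x ∈ Z' → Z = Z') :
    IsDomain (X.presheaf.stalk x) := by
  let Z₀ := irreducibleComponent x
  have hZ₀ := irreducibleComponent_mem_irreducibleComponents x
  have hg := isIrreducible_irreducibleComponent.isGenericPoint_genericPoint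
    (isClosed_irreducibleComponent (x := x))
  obtain ⟨P₀, hP₀⟩ : isIrreducible_irreducibleComponent.genericPoint ∈ Set.range (X.fromSpecStalk x) := by
    rw [Scheme.range_fromSpecStalk]
    exact hg.specializes mem_irreducibleComponent
  let P₀' : PrimeSpectrum (X.presheaf.stalk x) := P₀
  have hle : ∀ P : PrimeSpectrum (X.presheaf.stalk x), P₀'.asIdeal ≤ P.asIdeal := by
    intro P
    have hP : X.fromSpecStalk x P ⤳ x := (Scheme.range_fromSpecStalk (X := X) (x := x)).le ⟨P, rfl⟩
    have hZ := irreducibleComponent_mem_irreducibleComponents (X.fromSpecStalk x P)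
    have hxZ : x ∈ irreducibleComponent (X.fromSpecStalk x P) :=
      hP.mem_closed isClosed_irreducibleComponent mem_irreducibleComponent
    have hmem : X.fromSpecStalk x P ∈ irreducibleComponent x :=
      (h _ hZ _ hZ₀ hxZ mem_irreducibleComponent) ▸ mem_irreducibleComponent
    refine (PrimeSpectrum.le_iff_specializes P₀' P).2 ((X.fromSpecStalk x).isEmbedding.specializes_iff.1 ?_)
    exact (specializes_of_eq hP₀).trans (hg.specializes hmem)
  haveI : (⊥ : Ideal (X.presheaf.stalk x)).IsPrime := by
    have h1 : P₀'.asIdeal = ⊥ := by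
      refine le_bot_iff.1 ?_
      rw [← Ideal.zero_eq_bot, ← nilradical_eq_zero (X.presheaf.stalk x), nilradical_eq_sInf]
      exact le_sInf fun J hJ => hle ⟨J, hJ⟩
    exact h1 ▸ P₀'.isPrime
  exact IsDomain.of_bot_isPrime _

/-- With finitely many components, as many components of either kind means that they are disjoint. -/
theorem card_eq_iff_pairwise {W : Type u} [TopologicalSpace W] (hfin : (irreducibleComponents W).Finite) :
    Nat.card (irreducibleComponents W) = Nat.card (_root_.ConnectedComponents W) ↔
      ∀ Z ∈ irreducibleComponents W, ∀ Z' ∈ irreducibleComponents W, (Z ∩ Z').Nonempty → Z = Z' := by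
  haveI := hfin.to_subtype
  let F : irreducibleComponents W → _root_.ConnectedComponents W := fun Z => ConnectedComponents.mk Z.2.1.1.some
  have hF : ∀ (Z : irreducibleComponents W) (z : W), z ∈ Z.1 → ConnectedComponents.mk z = F Z := fun Z z hz =>
    ConnectedComponents.coe_eq_coe'.2
      (Z.2.1.isPreirreducible.isPreconnected.subset_connectedComponent Z.2.1.1.some_mem hz)
  have hsurj : Function.Surjective F := fun c => by
    obtain ⟨z, rfl⟩ := ConnectedComponents.surjective_coe c
    exact ⟨⟨_, irreducibleComponent_mem_irreducibleComponents z⟩, (hF _ z mem_irreducibleComponent).symm⟩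
  constructor
  · intro hc Z hZ Z' hZ' ⟨z, hz, hz'⟩
    have hinj := (hsurj.bijective_of_nat_card_le hc.le).1
    exact congrArg Subtype.val (@hinj ⟨Z, hZ⟩ ⟨Z', hZ'⟩ ((hF ⟨Z, hZ⟩ z hz).symm.trans (hF ⟨Z', hZ'⟩ z hz')))
  · intro hd
    refine Nat.card_eq_of_bijective F ⟨fun A B hAB => ?_, hsurj⟩
    have hclopen : IsClopen A.1 := by
      refine ⟨isClosed_of_mem_irreducibleComponents A.1 A.2, ?_⟩
      have : A.1 = (⋃ Z ∈ irreducibleComponents W \ {A.1}, Z)ᶜ := by
        ext z
        simp only [Set.mem_compl_iff, Set.mem_iUnion, not_exists, Set.mem_sdiff, Set.mem_singleton_iff]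
        constructor
        · intro hz Z hZ hzZ
          exact hZ.2 (hd Z hZ.1 A.1 A.2 ⟨z, hzZ, hz⟩)
        · intro hz
          by_contra hzA
          refine hz _ ⟨irreducibleComponent_mem_irreducibleComponents z, fun e => hzA ?_⟩ mem_irreducibleComponent
          exact e ▸ mem_irreducibleComponent
      rw [this]
      exact ((hfin.sdiff).isClosed_biUnion fun Z hZ => isClosed_of_mem_irreducibleComponents Z hZ.1).isOpen_compl
    have hB : B.2.1.1.some ∈ A.1 := hclopen.connectedComponent_subset A.2.1.1.some_mem
      (ConnectedComponents.coe_eq_coe'.1 hAB.symm)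
    exact Subtype.ext (hd A.1 A.2 B.1 B.2 ⟨_, hB, B.2.1.1.some_mem⟩)

end Groth.Agent.H06GeomInt
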