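import Groth.Agent.H7Flat.GeomReducedGenerization
import Mathlib.RingTheory.Filtration
import Mathlib.RingTheory.Localization.AtPrime.Basic

/-!
Points at which the base changes to fields are locally integral: elementary algebra (EGA IV 12.2.4).
-/

set_option autoImplicit false
set_option linter.style.haveILetI false

universe u

open TensorProduct

namespace Groth.Agent.H06GeomInt

/-- Every zero product has a factor killed outside `Q`. -/
def DomAt {B : Type u} [CommRing B] (Q : Ideal B) : Prop :=
  ∀ a b : B, a * b = 0 → ∃ s, s ∉ Q ∧ (s * a = 0 ∨ s * b = 0)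

theorem domAt_iff_isDomain {B : Type u} [CommRing B] (Q : Ideal B) [Q.IsPrime]
    (S : Type u) [CommRing S] [Algebra B S] [IsLocalization.AtPrime S Q] :
    DomAt Q ↔ IsDomain S := by
  constructor
  · intro h
    haveI : IsLocalRing S := IsLocalization.AtPrime.isLocalRing S Q
    haveI : NoZeroDivisors S := by
      refine ⟨fun {x y} hxy => ?_⟩
      obtain ⟨⟨a, s⟩, ha⟩ := IsLocalization.surj Q.primeCompl x
      obtain ⟨⟨b, t⟩, hb⟩ := IsLocalization.surj Q.primeCompl y
      have h0 : algebraMap B S (a * b) = 0 := by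
        rw [map_mul, ← ha, ← hb, mul_mul_mul_comm, hxy, zero_mul]
      obtain ⟨m, hm⟩ := (IsLocalization.map_eq_zero_iff Q.primeCompl S _).1 h0
      rw [← mul_assoc] at hm
      obtain ⟨u, hu, h1 | h1⟩ := h _ _ hm
      · left
        have h2 : algebraMap B S a = 0 := (IsLocalization.map_eq_zero_iff Q.primeCompl S _).2
          ⟨⟨u * m, Q.primeCompl.mul_mem hu m.2⟩, by rw [← h1]; ring⟩
        rw [h2] at ha
        exact (IsUnit.mul_left_eq_zero (IsLocalization.map_units S s)).1 ha
      · right
        have h2 : algebraMap B S b = 0 := (IsLocalization.map_eq_zero_iff Q.primeCompl S _).2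
          ⟨⟨u, hu⟩, h1⟩
        rw [h2] at hb
        exact (IsUnit.mul_left_eq_zero (IsLocalization.map_units S t)).1 hb
    exact NoZeroDivisors.to_isDomain S
  · intro h a b hab
    have h0 : algebraMap B S a * algebraMap B S b = 0 := by rw [← map_mul, hab, map_zero]
    rcases mul_eq_zero.1 h0 with h1 | h1
    · obtain ⟨m, hm⟩ := (IsLocalization.map_eq_zero_iff Q.primeCompl S _).1 h1
      exact ⟨m, m.2, Or.inl hm⟩
    · obtain ⟨m, hm⟩ := (IsLocalization.map_eq_zero_iff Q.primeCompl S _).1 h1
      exact ⟨m, m.2, Or.inr hm⟩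

theorem DomAt.comap_equiv {B B' : Type u} [CommRing B] [CommRing B'] (e : B ≃+* B') {Q : Ideal B'}
    (h : DomAt Q) : DomAt (Q.comap e.toRingHom) := by
  intro a b hab
  obtain ⟨s, hs, hor⟩ := h (e a) (e b) (by rw [← map_mul, hab, map_zero])
  refine ⟨e.symm s, fun hm => hs (by
    have h1 : e (e.symm s) ∈ Q := hm
    rwa [e.apply_symm_apply] at h1), hor.imp (fun h => e.injective ?_) (fun h => e.injective ?_)⟩
  · rw [map_mul, e.apply_symm_apply, h, map_zero]
  · rw [map_mul, e.apply_symm_apply, h, map_zero]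

/-- A noetherian ring with a regular element `π` of `q` such that `B / π` is integral at `q`
is integral at `q`. -/
theorem domAt_of_regular {B : Type u} [CommRing B] [IsNoetherianRing B] (q : Ideal B) [q.IsPrime]
    (π : B) (hπ : π ∈ q) (hreg : ∀ x, π * x = 0 → x = 0)
    (h : ∀ a b, π ∣ a * b → ∃ s, s ∉ q ∧ (π ∣ s * a ∨ π ∣ s * b)) : DomAt q := by
  let T := Localization.AtPrime q
  haveI : IsNoetherianRing T := IsLocalization.isNoetherianRing q.primeCompl T ‹_›
  refine (domAt_iff_isDomain q T).2 ?_
  let p := algebraMap B T π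
  have hp : p ∈ IsLocalRing.maximalIdeal T := by
    exact (IsLocalization.AtPrime.to_map_mem_maximal_iff T q π).2 hπ
  have hpreg : ∀ x : T, p * x = 0 → x = 0 := by
    intro x hx
    obtain ⟨⟨a, s⟩, ha⟩ := IsLocalization.surj q.primeCompl x
    have h0 : algebraMap B T (π * a) = 0 := by rw [map_mul, ← ha, ← mul_assoc, hx, zero_mul]
    obtain ⟨m, hm⟩ := (IsLocalization.map_eq_zero_iff q.primeCompl T _).1 h0
    have hma : (m : B) * a = 0 := hreg _ (by rw [← hm]; ring)
    have h2 : algebraMap B T a = 0 := (IsLocalization.map_eq_zero_iff q.primeCompl T _).2 ⟨m, hma⟩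
    rw [h2] at ha
    exact (IsUnit.mul_left_eq_zero (IsLocalization.map_units T s)).1 ha
  have hprime : ∀ x y : T, p ∣ x * y → p ∣ x ∨ p ∣ y := by
    rintro x y ⟨z, hz⟩
    obtain ⟨⟨a, s⟩, ha⟩ := IsLocalization.surj q.primeCompl x
    obtain ⟨⟨b, t⟩, hb⟩ := IsLocalization.surj q.primeCompl y
    obtain ⟨⟨c, v⟩, hc⟩ := IsLocalization.surj q.primeCompl z
    have h0 : algebraMap B T (a * b * v) = algebraMap B T (π * c * (s * t)) := by
      simp only [map_mul]
      rw [← ha, ← hb, ← hc]
      linear_combination (algebraMap B T s * algebraMap B T t * algebraMap B T v) * hz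
    obtain ⟨m, hm⟩ := (IsLocalization.eq_iff_exists q.primeCompl T).1 h0
    obtain ⟨u, hu, h1 | h1⟩ := h (m * v * a) b ⟨m * c * (s * t), by linear_combination hm⟩
    · left
      obtain ⟨d, hd⟩ := h1
      have hU : IsUnit (algebraMap B T ((u * m * v) * s)) := IsLocalization.map_units T
        (⟨(u * m * v) * s, q.primeCompl.mul_mem (q.primeCompl.mul_mem (q.primeCompl.mul_mem hu m.2) v.2) s.2⟩ :
          q.primeCompl)
      refine (hU.dvd_mul_left).1 ⟨algebraMap B T d, ?_⟩
      have := congrArg (algebraMap B T) hd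
      simp only [map_mul] at this ⊢
      rw [← ha] at this
      linear_combination this
    · right
      obtain ⟨d, hd⟩ := h1
      have hU : IsUnit (algebraMap B T (u * t)) := IsLocalization.map_units T
        (⟨u * t, q.primeCompl.mul_mem hu t.2⟩ : q.primeCompl)
      refine (hU.dvd_mul_left).1 ⟨algebraMap B T d, ?_⟩
      have := congrArg (algebraMap B T) hd
      simp only [map_mul] at this ⊢
      rw [← hb] at this
      linear_combination this
  have hdec : ∀ x : T, x ≠ 0 → ∃ (n : ℕ) (x' : T), x = p ^ n * x' ∧ ¬ p ∣ x' := by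
    classical
    intro x hx
    have hex : ∃ n, ¬ p ^ n ∣ x := by
      by_contra hall
      push Not at hall
      refine hx ?_
      have hmem : x ∈ ⨅ i : ℕ, (Ideal.span {p}) ^ i := by
        refine Submodule.mem_iInf _ |>.2 fun i => ?_
        rw [Ideal.span_singleton_pow, Ideal.mem_span_singleton]
        exact hall i
      rw [Ideal.iInf_pow_eq_bot_of_isLocalRing _ (by
        intro htop
        exact (IsLocalRing.maximalIdeal.isMaximal T).ne_top
          (top_le_iff.1 (htop ▸ (Ideal.span_singleton_le_iff_mem _).2 hp)))] at hmem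
      exact hmem
    obtain ⟨hn, hmin⟩ := Nat.find_spec hex, @Nat.find_min _ _ hex
    cases hN : Nat.find hex with
    | zero => exact absurd (by rw [hN] at *; exact ⟨x, by simp⟩ : p ^ Nat.find hex ∣ x) (Nat.find_spec hex)
    | succ n =>
      obtain ⟨x', rfl⟩ : p ^ n ∣ x := by
        by_contra hc
        exact (Nat.find_min hex (by omega : n < Nat.find hex)) hc
      refine ⟨n, x', rfl, fun hd => Nat.find_spec hex ?_⟩
      rw [hN, pow_succ]
      exact mul_dvd_mul_left _ hd
  have hpow : ∀ (n : ℕ) (x : T), p ^ n * x = 0 → x = 0 := by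
    intro n
    induction n with
    | zero => simp
    | succ n ih => intro x hx; exact hpreg x (ih _ (by rw [← mul_assoc, ← pow_succ]; exact hx))
  haveI : NoZeroDivisors T := by
    refine ⟨fun {x y} hxy => ?_⟩
    by_contra hne
    push Not at hne
    obtain ⟨n, x', rfl, hx'⟩ := hdec x hne.1
    obtain ⟨m, y', rfl, hy'⟩ := hdec y hne.2
    have h0 : x' * y' = 0 := hpow (n + m) _ (by rw [← hxy]; ring)
    rcases hprime x' y' (h0 ▸ dvd_zero p) with h1 | h1
    · exact hx' h1
    · exact hy' h1
  exact NoZeroDivisors.to_isDomain T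

/-- In a noetherian ring the property spreads to a neighbourhood. -/
theorem exists_uniform_of_domAt {C : Type u} [CommRing C] [IsNoetherianRing C] (Q : Ideal C) [Q.IsPrime]
    (h : DomAt Q) : ∃ f, f ∉ Q ∧ ∀ a b : C, a * b = 0 → f * a = 0 ∨ f * b = 0 := by
  classical
  let T := Localization.AtPrime Q
  haveI : IsDomain T := (domAt_iff_isDomain Q T).1 h
  let N := RingHom.ker (algebraMap C T)
  haveI : N.IsPrime := RingHom.ker_isPrime _
  obtain ⟨G, hG⟩ := IsNoetherian.noetherian N
  have hk : ∀ x ∈ N, ∃ m : Q.primeCompl, (m : C) * x = 0 := fun x hx =>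
    (IsLocalization.map_eq_zero_iff Q.primeCompl T x).1 hx
  choose m hm using hk
  let f : Q.primeCompl := ∏ x ∈ G.attach, m x.1 (hG ▸ Ideal.subset_span x.2)
  refine ⟨f, f.2, fun a b hab => ?_⟩
  have hkill : ∀ x ∈ N, (f : C) * x = 0 := by
    intro x hx
    rw [← hG] at hx
    induction hx using Submodule.span_induction with
    | mem y hy =>
      have hd : m y (hG ▸ Ideal.subset_span hy) ∣ f :=
        Finset.dvd_prod_of_mem (fun z : {z // z ∈ G} => m z.1 (hG ▸ Ideal.subset_span z.2))
          (Finset.mem_attach G ⟨y, hy⟩)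
      obtain ⟨c, hc⟩ := hd
      rw [hc, Submonoid.coe_mul, mul_right_comm, hm, zero_mul]
    | zero => exact mul_zero _
    | add y z _ _ hy hz => rw [mul_add, hy, hz, add_zero]
    | smul r y _ hy => rw [smul_eq_mul, mul_left_comm, hy, mul_zero]
  rcases (inferInstance : N.IsPrime).mem_or_mem (show a * b ∈ N from hab ▸ zero_mem N) with h1 | h1
  · exact Or.inl (hkill a h1)
  · exact Or.inr (hkill b h1)

end Groth.Agent.H06GeomInt
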