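import Groth.Agent.H06GeomInt.DomAt
import Groth.Agent.H8Props.GeometricDescent

/-!
Field valued points at which the base change is integral.
-/

set_option autoImplicit false
set_option linter.style.haveILetI false
set_option backward.isDefEq.respectTransparency false

universe u

open TensorProduct

namespace Groth.Agent.H06GeomInt

variable {R A : Type u} [CommRing R] [CommRing A] [Algebra R A]

/-- The rational point of `K ⊗[R] A` of a point with values in `K`. -/
noncomputable def eval {K : Type u} [Field K] [Algebra R K] (χ : A →ₐ[R] K) : K ⊗[R] A →ₐ[R] K :=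
  Algebra.TensorProduct.lift (AlgHom.id R K) χ (fun _ _ => .all _ _)

@[simp] theorem eval_tmul {K : Type u} [Field K] [Algebra R K] (χ : A →ₐ[R] K) (x : K) (a : A) :
    eval χ (x ⊗ₜ a) = x * χ a := by simp [eval]

/-- The base change to `K` is integral at the rational point of `χ`. -/
def DomPt {K : Type u} [Field K] [Algebra R K] (χ : A →ₐ[R] K) : Prop :=
  ∀ a b : K ⊗[R] A, a * b = 0 → ∃ s, eval χ s ≠ 0 ∧ (s * a = 0 ∨ s * b = 0)

/-- All base changes to fields are integral at the points over `q`. -/
def GAt (R : Type u) [CommRing R] {A : Type u} [CommRing A] [Algebra R A] (q : Ideal A) : Prop :=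
  ∀ (K : Type u) [Field K] [Algebra R K] (χ : A →ₐ[R] K), RingHom.ker χ.toRingHom = q → DomPt χ

theorem exists_of_domPt {K M : Type u} [Field K] [Field M] [Algebra R K] [Algebra R M] [Algebra K M]
    [IsScalarTower R K M] (χ : A →ₐ[R] M) (ψ : K ⊗[R] A →ₐ[K] M) (hψ : ∀ a, ψ (1 ⊗ₜ a) = χ a)
    (h : DomPt χ) (a b : K ⊗[R] A) (hab : a * b = 0) :
    ∃ s, ψ s ≠ 0 ∧ (s * a = 0 ∨ s * b = 0) := by
  let e := Algebra.TensorProduct.cancelBaseChange R K M M A
  obtain ⟨s, hs, hor⟩ := h (e ((1 : M) ⊗ₜ a)) (e ((1 : M) ⊗ₜ b)) (by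
    rw [← map_mul, Algebra.TensorProduct.tmul_mul_tmul, one_mul, hab, tmul_zero, map_zero])
  obtain ⟨s', rfl⟩ := e.surjective s
  have hev : Algebra.TensorProduct.lift (AlgHom.id K M) ψ (fun _ _ => .all _ _) s' = eval χ (e s') := by
    clear hs hor
    induction s' using TensorProduct.induction_on with
    | zero => simp
    | tmul f z =>
      induction z using TensorProduct.induction_on with
      | zero => simp
      | tmul l a =>
        rw [Algebra.TensorProduct.cancelBaseChange_tmul, Algebra.TensorProduct.lift_tmul, eval_tmul,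
          show l ⊗ₜ[R] a = l • ((1 : K) ⊗ₜ[R] a) by rw [TensorProduct.smul_tmul', smul_eq_mul, mul_one],
          map_smul, hψ]
        simp [Algebra.smul_def, mul_comm, mul_left_comm]
      | add y z hy hz => rw [TensorProduct.tmul_add, map_add, map_add, map_add, hy, hz]
    | add y z hy hz => rw [map_add, map_add, map_add, hy, hz]
  rw [← hev] at hs
  rcases hor with h1 | h1
  · obtain ⟨s₀, h2, h3⟩ := H7Flat.GeomReduced.exists_annihilator_descend (L := K) (F := M) ψ a s'
      (e.injective (by rw [map_mul, h1, map_zero])) hs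
    exact ⟨s₀, h2, Or.inl h3⟩
  · obtain ⟨s₀, h2, h3⟩ := H7Flat.GeomReduced.exists_annihilator_descend (L := K) (F := M) ψ b s'
      (e.injective (by rw [map_mul, h1, map_zero])) hs
    exact ⟨s₀, h2, Or.inr h3⟩

/-- Integrality at a point descends along extensions of fields. -/
theorem DomPt.descend {K M : Type u} [Field K] [Field M] [Algebra R K] [Algebra R M]
    (i : K →ₐ[R] M) {χ : A →ₐ[R] K} (h : DomPt (i.comp χ)) : DomPt χ := by
  letI := i.toRingHom.toAlgebra
  haveI : IsScalarTower R K M := IsScalarTower.of_algebraMap_eq fun r => (i.commutes r).symm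
  intro a b hab
  let ψ : K ⊗[R] A →ₐ[K] M :=
    Algebra.TensorProduct.lift (Algebra.ofId K M) (i.comp χ) (fun _ _ => .all _ _)
  have he : ∀ s, ψ s = i (eval χ s) := fun s => by
    induction s using TensorProduct.induction_on with
    | zero => simp
    | tmul x y =>
      simp only [ψ, Algebra.TensorProduct.lift_tmul, eval_tmul, map_mul]
      rfl
    | add y z hy hz => rw [map_add, map_add, map_add, hy, hz]
  obtain ⟨s, hs, hor⟩ := exists_of_domPt (i.comp χ) ψ (fun a => by simp [ψ]) h a b hab
  exact ⟨s, fun h0 => hs (by rw [he, h0, map_zero]), hor⟩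

/-- `GAt` gives integrality at all points over `q` of base changes to fields. -/
theorem domAt_of_gAt {q : Ideal A} (h : GAt R q) {K : Type u} [Field K] [Algebra R K]
    (Q : Ideal (K ⊗[R] A)) [Q.IsPrime]
    (hQ : Q.comap (Algebra.TensorProduct.includeRight : A →ₐ[R] K ⊗[R] A).toRingHom = q) : DomAt Q := by
  intro a b hab
  let M := Q.ResidueField
  let ψ : K ⊗[R] A →ₐ[K] M := IsScalarTower.toAlgHom K (K ⊗[R] A) M
  let χ : A →ₐ[R] M := (ψ.restrictScalars R).comp Algebra.TensorProduct.includeRight
  have hker : RingHom.ker χ.toRingHom = q := by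
    rw [← hQ]
    ext x
    exact Ideal.algebraMap_residueField_eq_zero
  obtain ⟨s, hs, hor⟩ := exists_of_domPt χ ψ (fun _ => rfl) (h M χ hker) a b hab
  exact ⟨s, fun hm => hs (Ideal.algebraMap_residueField_eq_zero.2 hm), hor⟩

theorem domPt_iff_domAt {K : Type u} [Field K] [Algebra R K] (χ : A →ₐ[R] K) :
    DomPt χ ↔ DomAt (RingHom.ker (eval χ).toRingHom) := Iff.rfl

theorem gAt_of_forall_domAt {q : Ideal A}
    (h : ∀ (K : Type u) [Field K] [Algebra R K] (Q : Ideal (K ⊗[R] A)), Q.IsPrime →
      Q.comap (Algebra.TensorProduct.includeRight : A →ₐ[R] K ⊗[R] A).toRingHom = q → DomAt Q) :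
    GAt R q := fun K _ _ χ hχ => by
  refine (domPt_iff_domAt χ).2 (h K _ (RingHom.ker_isPrime _) ?_)
  rw [← hχ]
  ext a
  simp [RingHom.mem_ker]

section BaseChange

variable {R' A' : Type u} [CommRing R'] [CommRing A'] [Algebra R R'] [Algebra R' A']
  (e : R' ⊗[R] A ≃ₐ[R'] A')

theorem domPt_baseChange_iff {K : Type u} [Field K] [Algebra R' K] [Algebra R K] [IsScalarTower R R' K]
    (χ' : A' →ₐ[R'] K) (χ : A →ₐ[R] K) (hχ : ∀ a, χ a = χ' (e (1 ⊗ₜ a))) :
    DomPt χ' ↔ DomPt χ := by
  let E : K ⊗[R] A ≃ₐ[K] K ⊗[R'] A' := (Algebra.TensorProduct.cancelBaseChange R R' K K A).symm.trans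
    (Algebra.TensorProduct.congr AlgEquiv.refl e)
  have he : ∀ s, eval χ' (E s) = eval χ s := fun s => by
    induction s using TensorProduct.induction_on with
    | zero => simp
    | tmul x a => simp [E, hχ]
    | add y z hy hz => rw [map_add, map_add, map_add, hy, hz]
  constructor
  · intro h a b hab
    obtain ⟨s, hs, hor⟩ := h (E a) (E b) (by rw [← map_mul, hab, map_zero])
    obtain ⟨s, rfl⟩ := E.surjective s
    rw [he] at hs
    exact ⟨s, hs, hor.imp (fun h1 => E.injective (by rw [map_mul, h1, map_zero]))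
      (fun h1 => E.injective (by rw [map_mul, h1, map_zero]))⟩
  · intro h a b hab
    obtain ⟨a, rfl⟩ := E.surjective a
    obtain ⟨b, rfl⟩ := E.surjective b
    obtain ⟨s, hs, hor⟩ := h a b (E.injective (by rw [map_mul, hab, map_zero]))
    exact ⟨E s, by rwa [he], hor.imp (fun h1 => by rw [← map_mul, h1, map_zero])
      (fun h1 => by rw [← map_mul, h1, map_zero])⟩

/-- The inclusion into a base change. -/
noncomputable def incl : A →+* A' :=
  e.toRingEquiv.toRingHom.comp (Algebra.TensorProduct.includeRight : A →ₐ[R] R' ⊗[R] A).toRingHom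

theorem incl_apply (a : A) : incl e a = e (1 ⊗ₜ a) := rfl

theorem incl_algebraMap (r : R) : incl e (algebraMap R A r) = algebraMap R' A' (algebraMap R R' r) := by
  rw [incl_apply, ← e.commutes]
  congr 1
  rw [Algebra.TensorProduct.algebraMap_apply, show (1 : R') ⊗ₜ[R] algebraMap R A r = algebraMap R R' r ⊗ₜ[R] (1 : A) by
    rw [Algebra.algebraMap_eq_smul_one, ← TensorProduct.smul_tmul, ← Algebra.algebraMap_eq_smul_one]]
  rfl

theorem gAt_baseChange {q' : Ideal A'} (h : GAt R (q'.comap (incl e))) : GAt R' q' := by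
  intro K _ _ χ' hχ'
  letI : Algebra R K := ((algebraMap R' K).comp (algebraMap R R')).toAlgebra
  haveI : IsScalarTower R R' K := IsScalarTower.of_algebraMap_eq fun _ => rfl
  let χ : A →ₐ[R] K :=
    { χ'.toRingHom.comp (incl e) with
      commutes' := fun r => by
        show χ' (incl e (algebraMap R A r)) = _
        rw [incl_algebraMap, χ'.commutes]
        rfl }
  refine (domPt_baseChange_iff e χ' χ fun _ => rfl).2 (h K χ ?_)
  show RingHom.ker (χ'.toRingHom.comp (incl e)) = _
  rw [← RingHom.comap_ker, hχ']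

theorem gAt_of_baseChange {q : Ideal A} [q.IsPrime] {q' : Ideal A'} [q'.IsPrime]
    (hq : q'.comap (incl e) = q) (h : GAt R' q') : GAt R q := by
  intro K _ _ χ hχ
  let φ : q.ResidueField →+* K := Ideal.ResidueField.lift q χ.toRingHom hχ.ge
    (fun a ha => isUnit_iff_ne_zero.2 fun h0 => ha (hχ.le h0))
  let ψ : q.ResidueField →+* q'.ResidueField := Ideal.ResidueField.map q q' (incl e) hq.symm
  obtain ⟨M, _, aK, bq, hab⟩ := H8Props.GeometricDescent.exists_compositum φ ψ
  letI : Algebra R' M := ((bq.comp (algebraMap A' q'.ResidueField)).comp (algebraMap R' A')).toAlgebra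
  letI : Algebra R M := ((algebraMap R' M).comp (algebraMap R R')).toAlgebra
  haveI : IsScalarTower R R' M := IsScalarTower.of_algebraMap_eq fun _ => rfl
  let χ' : A' →ₐ[R'] M := { bq.comp (algebraMap A' q'.ResidueField) with commutes' := fun _ => rfl }
  have hkey : ∀ a : A, aK (χ a) = χ' (incl e a) := fun a => by
    have h1 := RingHom.congr_fun hab (algebraMap A q.ResidueField a)
    rw [RingHom.comp_apply, RingHom.comp_apply] at h1
    convert h1 using 2
    · exact (Ideal.ResidueField.lift_algebraMap q _ _ _ a).symm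
    · exact congrArg bq (Ideal.ResidueField.map_algebraMap q q' (incl e) hq.symm a).symm
  let i : K →ₐ[R] M :=
    { aK with
      commutes' := fun r => by
        show aK (algebraMap R K r) = χ' (algebraMap R' A' (algebraMap R R' r))
        rw [← incl_algebraMap e, ← χ.commutes, hkey] }
  refine DomPt.descend i ((domPt_baseChange_iff e χ' (i.comp χ) fun a => hkey a).1 (h M χ' ?_))
  show RingHom.ker (bq.comp (algebraMap A' q'.ResidueField)) = q'
  rw [RingHom.ker_comp_of_injective _ bq.injective, Ideal.ker_algebraMap_residueField]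

theorem gAt_baseChange_iff (q' : Ideal A') [q'.IsPrime] :
    GAt R' q' ↔ GAt R (q'.comap (incl e)) :=
  ⟨gAt_of_baseChange e rfl, gAt_baseChange e⟩

end BaseChange

end Groth.Agent.H06GeomInt
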