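import Groth.Agent.H06GeomInt.Loci
import Groth.Agent.H12AlgSp.UnivInj

/-!
Geometrically pointwise integral schemes over fields and the locus of such fibres.
-/

set_option autoImplicit false
set_option linter.style.haveILetI false
set_option backward.isDefEq.respectTransparency false

open CategoryTheory CategoryTheory.Limits AlgebraicGeometry TopologicalSpace Topology

universe u

namespace Groth.Agent.H06GeomInt

theorem flat_toField {X : Scheme.{u}} {k : Type u} [Field k] (f : X ⟶ Spec (CommRingCat.of k)) : Flat f :=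
  H12AlgSp.flat_to_field f

theorem mem_locus_fiberι {X Y : Scheme.{u}} (f : X ⟶ Y) (y : Y) (v : ↥(f.fiber y)) :
    f.fiberι y v ∈ Locus f ↔ FBase.IsGeomPtIntegralAt (f.fiberToSpecResidueField y) v := by
  obtain ⟨x, hx⟩ : ∃ x, f.fiberι y v = x := ⟨_, rfl⟩
  rw [hx]
  obtain rfl : f x = y := hx ▸ (f.range_fiberι y).le (Set.mem_range_self v)
  obtain rfl : v = f.asFiber x := (f.fiberι _).isEmbedding.injective (hx.trans (f.fiberι_asFiber _).symm)
  exact Iff.rfl

theorem setOf_forall_eq {X Y : Scheme.{u}} (f : X ⟶ Y) :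
    {y : Y | ∀ x : ↥(f.fiber y), FBase.IsGeomPtIntegralAt (f.fiberToSpecResidueField y) x} =
      (f '' (Locus f)ᶜ)ᶜ := by
  ext y
  simp only [Set.mem_compl_iff, Set.mem_image, not_exists, not_and]
  constructor
  · intro h x hx hfx
    obtain ⟨v, rfl⟩ := (f.range_fiberι y).ge (show x ∈ f ⁻¹' {y} from hfx)
    exact hx ((mem_locus_fiberι f y v).2 (h v))
  · intro h v
    refine (mem_locus_fiberι f y v).1 ?_
    by_contra hn
    exact h _ hn ((f.range_fiberι y).le (Set.mem_range_self v))

/-- The fibres that are geometrically pointwise integral form an open set, for proper flat morphisms. -/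
theorem isOpen_setOf_forall_mem_locus {X Y : Scheme.{u}} (f : X ⟶ Y) [IsProper f] [Flat f]
    [LocallyOfFinitePresentation f] :
    IsOpen {y : Y | ∀ x : ↥(f.fiber y), FBase.IsGeomPtIntegralAt (f.fiberToSpecResidueField y) x} := by
  rw [setOf_forall_eq]
  exact (f.isClosedMap _ (isOpen_locus f).isClosed_compl).isOpen_compl

end Groth.Agent.H06GeomInt
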