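import Groth.Agent.H06GeomInt.DomPt

/-!
Geometric pointwise integrality passes to generizations for flat algebras of finite type (EGA IV 12.2.4).
-/

set_option autoImplicit false
set_option linter.style.haveILetI false
set_option backward.isDefEq.respectTransparency false

universe u

open TensorProduct

namespace Groth.Agent.H06GeomInt

variable {R A : Type u} [CommRing R] [CommRing A] [Algebra R A]

theorem exists_of_dvr [Algebra.FiniteType R A] [Module.Flat R A] {F : Type u} [Field F] [Algebra R F]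
    (W : ValuationSubring F) [IsDiscreteValuationRing W] (hRW : ∀ r, algebraMap R F r ∈ W)
    (q : Ideal A) (χ : A →ₐ[R] F) (hχ : ∀ a, χ a ∈ W) (hq : ∀ a, a ∈ q ↔ W.valuation (χ a) < 1)
    (hgeo : GAt R q) : DomPt χ := by
  letI : Algebra R W := ((algebraMap R F).codRestrict W.toSubring hRW).toAlgebra
  let i : W →ₐ[R] F := { W.subtype with commutes' := fun _ => rfl }
  let χ' : A →ₐ[R] W :=
    { χ.toRingHom.codRestrict W.toSubring hχ with commutes' := fun r => Subtype.ext (χ.commutes r) }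
  let ι : W ⊗[R] A →ₐ[R] F ⊗[R] A := Algebra.TensorProduct.map i (AlgHom.id R A)
  have hι : Function.Injective ι :=
    Module.Flat.rTensor_preserves_injective_linearMap (M := A) i.toLinearMap Subtype.val_injective
  let εW : W ⊗[R] A →ₐ[R] W := Algebra.TensorProduct.lift (AlgHom.id R W) χ' (fun _ _ => .all _ _)
  have hεF : (eval χ).comp ι = i.comp εW := by
    refine Algebra.TensorProduct.ext' fun w a => ?_
    simp only [AlgHom.comp_apply, εW, ι, Algebra.TensorProduct.map_tmul, eval_tmul, Algebra.TensorProduct.lift_tmul, map_mul]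
    rfl
  haveI : IsNoetherianRing (W ⊗[R] A) := Algebra.FiniteType.isNoetherianRing W _
  obtain ⟨π, hπ⟩ := IsDiscreteValuationRing.exists_irreducible W
  let k := IsLocalRing.ResidueField W
  let χk : A →ₐ[R] k := (IsScalarTower.toAlgHom R W k).comp χ'
  have hk : RingHom.ker χk.toRingHom = q := by
    ext a
    rw [RingHom.mem_ker, hq]
    show IsLocalRing.residue W (χ' a) = 0 ↔ _
    rw [IsLocalRing.residue_eq_zero_iff, W.valuation_lt_one_iff]
    rfl
  let r : W ⊗[R] A →ₐ[R] k ⊗[R] A :=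
    Algebra.TensorProduct.map (IsScalarTower.toAlgHom R W k) (AlgHom.id R A)
  have hr : Function.Surjective r := by
    intro z
    induction z using TensorProduct.induction_on with
    | zero => exact ⟨0, map_zero _⟩
    | tmul x a =>
      obtain ⟨w, rfl⟩ := IsLocalRing.residue_surjective x
      exact ⟨w ⊗ₜ a, rfl⟩
    | add y z hy hz =>
      obtain ⟨y', rfl⟩ := hy
      obtain ⟨z', rfl⟩ := hz
      exact ⟨y' + z', map_add _ _ _⟩
  have hev : ∀ z, eval χk (r z) = IsLocalRing.residue W (εW z) := by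
    intro z
    induction z using TensorProduct.induction_on with
    | zero => simp
    | tmul x a =>
      simp only [r, εW, Algebra.TensorProduct.map_tmul, eval_tmul, Algebra.TensorProduct.lift_tmul, map_mul]
      rfl
    | add y z hy hz => rw [map_add, map_add, map_add, map_add, hy, hz]
  have hker : ∀ z, r z = 0 → π ⊗ₜ[R] (1 : A) ∣ z := by
    intro z hz
    have h1 := Algebra.TensorProduct.rTensor_ker (R := R) (S := R) (C := A)
      (IsScalarTower.toAlgHom R W k) IsLocalRing.residue_surjective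
    have hz' : z ∈ RingHom.ker r := hz
    rw [show RingHom.ker r = _ from h1] at hz'
    refine Ideal.mem_span_singleton.1 (Ideal.map_le_iff_le_comap.2 ?_ hz')
    intro w hw
    have hw' : w ∈ IsLocalRing.maximalIdeal W := by
      rw [← IsLocalRing.residue_eq_zero_iff]; exact hw
    rw [hπ.maximalIdeal_eq, Ideal.mem_span_singleton] at hw'
    obtain ⟨v, rfl⟩ := hw'
    refine Ideal.mem_span_singleton.2 ⟨v ⊗ₜ 1, ?_⟩
    simp
  let Q : Ideal (W ⊗[R] A) := (IsLocalRing.maximalIdeal W).comap εW.toRingHom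
  haveI : Q.IsPrime := Ideal.comap_isPrime _ _
  have hπQ : π ⊗ₜ[R] (1 : A) ∈ Q := by
    show εW (π ⊗ₜ 1) ∈ IsLocalRing.maximalIdeal W
    rw [show εW (π ⊗ₜ 1) = π by simp [εW], hπ.maximalIdeal_eq]
    exact Ideal.mem_span_singleton_self π
  have hπ0 : (π : F) ≠ 0 := fun h0 => hπ.ne_zero (Subtype.ext h0)
  have hreg : ∀ x : W ⊗[R] A, π ⊗ₜ[R] (1 : A) * x = 0 → x = 0 := by
    intro x hx
    refine hι ?_
    have h := congrArg ι hx
    rw [map_mul, map_zero] at h
    rw [map_zero]
    exact (IsUnit.mul_right_eq_zero ((isUnit_iff_ne_zero.2 hπ0).map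
      (Algebra.TensorProduct.includeLeftRingHom (R := R) (A := F) (B := A)))).1 h
  have hdom : DomAt Q := by
    refine domAt_of_regular Q _ hπQ hreg fun a b ⟨c, hc⟩ => ?_
    have h0 : r a * r b = 0 := by
      rw [← map_mul, hc, map_mul]
      have : r (π ⊗ₜ[R] (1 : A)) = 0 := by
        show IsLocalRing.residue W π ⊗ₜ[R] (1 : A) = 0
        rw [(IsLocalRing.residue_eq_zero_iff π).2 (hπ.maximalIdeal_eq ▸ Ideal.mem_span_singleton_self π),
          zero_tmul]
      rw [this, zero_mul]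
    obtain ⟨s, hs, hor⟩ := hgeo k χk hk (r a) (r b) h0
    obtain ⟨s, rfl⟩ := hr s
    refine ⟨s, fun hm => hs ?_, hor.imp (fun h1 => hker _ (by rw [map_mul, h1]))
      (fun h1 => hker _ (by rw [map_mul, h1]))⟩
    rw [hev, IsLocalRing.residue_eq_zero_iff]
    exact hm
  have hclear : ∀ ν : F ⊗[R] A, ∃ (c : W), c ≠ 0 ∧ ∃ t : W ⊗[R] A, ι t = ((c : F) ⊗ₜ[R] (1 : A)) * ν := by
    intro ν
    induction ν using TensorProduct.induction_on with
    | zero => exact ⟨1, one_ne_zero, 0, by simp⟩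
    | tmul x a =>
      obtain ⟨n, d, hd, rfl⟩ := IsFractionRing.div_surjective (A := W) x
      refine ⟨d, nonZeroDivisors.ne_zero hd, n ⊗ₜ a, ?_⟩
      have hd0 : (d : F) ≠ 0 := fun h => nonZeroDivisors.ne_zero hd (Subtype.ext h)
      show (n : F) ⊗ₜ[R] a = _
      rw [Algebra.TensorProduct.tmul_mul_tmul, one_mul]
      congr 1
      show (n : F) = (d : F) * ((n : F) / (d : F))
      field_simp
    | add x y hx hy =>
      obtain ⟨c, hc, t, ht⟩ := hx
      obtain ⟨d, hd, u, hu⟩ := hy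
      refine ⟨c * d, mul_ne_zero hc hd, (d ⊗ₜ 1) * t + (c ⊗ₜ 1) * u, ?_⟩
      rw [map_add, map_mul, map_mul, ht, hu]
      simp only [ι, i, Algebra.TensorProduct.map_tmul, map_one, mul_add, ← mul_assoc,
        Algebra.TensorProduct.tmul_mul_tmul, mul_one]
      show ((d : F) * (c : F)) ⊗ₜ[R] (1 : A) * x + ((c : F) * (d : F)) ⊗ₜ[R] (1 : A) * y =
        ((c : F) * (d : F)) ⊗ₜ[R] (1 : A) * x + ((c : F) * (d : F)) ⊗ₜ[R] (1 : A) * y
      rw [mul_comm (d : F) (c : F)]
  intro a b hab
  obtain ⟨c, hc, a', ha⟩ := hclear a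
  obtain ⟨d, hd, b', hb⟩ := hclear b
  have hunit : ∀ c : W, c ≠ 0 → IsUnit ((c : F) ⊗ₜ[R] (1 : A)) := fun c hc =>
    (isUnit_iff_ne_zero.2 fun h0 => hc (Subtype.ext h0)).map
      (Algebra.TensorProduct.includeLeftRingHom (R := R) (A := F) (B := A))
  obtain ⟨s, hs, hor⟩ := hdom a' b' (hι (by
    rw [map_mul, ha, hb, mul_mul_mul_comm, hab, mul_zero, map_zero]))
  refine ⟨ι s, ?_, hor.imp (fun h1 => ?_) (fun h1 => ?_)⟩
  · rw [← AlgHom.comp_apply, hεF, AlgHom.comp_apply]
    intro h0
    refine hs ?_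
    show εW s ∈ IsLocalRing.maximalIdeal W
    rw [show εW s = 0 from Subtype.ext h0]
    exact zero_mem _
  · have h := congrArg ι h1
    rw [map_mul, ha, map_zero, mul_left_comm] at h
    exact (IsUnit.mul_right_eq_zero (hunit c hc)).1 h
  · have h := congrArg ι h1
    rw [map_mul, hb, map_zero, mul_left_comm] at h
    exact (IsUnit.mul_right_eq_zero (hunit d hd)).1 h

/-- Geometric pointwise integrality passes to generizations. -/
theorem gAt_of_le [IsNoetherianRing R] [Algebra.FiniteType R A] [Module.Flat R A]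
    {q q₁ : Ideal A} [q.IsPrime] [q₁.IsPrime] (hle : q ≤ q₁) (h : GAt R q₁) : GAt R q := by
  classical
  rcases eq_or_ne q q₁ with rfl | hne
  · exact h
  intro K _ _ χ hχ a b hab
  obtain ⟨Sa, hSa⟩ := H7Flat.GeomReduced.exists_finset_mem_range a
  obtain ⟨Sb, hSb⟩ := H7Flat.GeomReduced.exists_finset_mem_range b
  let F := Subfield.closure (Set.range χ ∪ ↑(Sa ∪ Sb))
  letI : Algebra R F := ((algebraMap R K).codRestrict F.toSubring fun r =>
    Subfield.subset_closure (Or.inl ⟨algebraMap R A r, χ.commutes r⟩)).toAlgebra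
  let i : F →ₐ[R] K := { F.subtype with commutes' := fun _ => rfl }
  let χ₀ : A →ₐ[R] F :=
    { χ.toRingHom.codRestrict F.toSubring fun a => Subfield.subset_closure (Or.inl ⟨a, rfl⟩) with
      commutes' := fun r => Subtype.ext (χ.commutes r) }
  have hmem : ∀ x ∈ Sa ∪ Sb, x ∈ Set.range i := fun x hx =>
    ⟨⟨x, Subfield.subset_closure (Or.inr hx)⟩, rfl⟩
  obtain ⟨a₀, ha₀⟩ := hSa F i fun x hx => hmem x (Finset.mem_union_left _ hx)
  obtain ⟨b₀, hb₀⟩ := hSb F i fun x hx => hmem x (Finset.mem_union_right _ hx)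
  let j : F ⊗[R] A →ₐ[R] K ⊗[R] A := Algebra.TensorProduct.map i (AlgHom.id R A)
  have hj : Function.Injective j :=
    Module.Flat.rTensor_preserves_injective_linearMap (M := A) i.toLinearMap Subtype.val_injective
  have hker : RingHom.ker χ₀.toRingHom = q := by
    rw [← hχ]; ext x; exact ⟨fun h => congrArg Subtype.val h, fun h => Subtype.ext h⟩
  haveI : IsNoetherianRing A := Algebra.FiniteType.isNoetherianRing R A
  letI : Algebra (A ⧸ q) F := (Ideal.Quotient.lift q χ₀.toRingHom fun x hx => hker.ge hx).toAlgebra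
  have hinj : Function.Injective (algebraMap (A ⧸ q) F) :=
    RingHom.lift_injective_of_ker_le_ideal q _ hker.le
  let S' : Finset F := (Sa ∪ Sb).attach.image fun x => ⟨x.1, Subfield.subset_closure (Or.inr x.2)⟩
  have hgen : Subfield.closure (Set.range (algebraMap (A ⧸ q) F) ∪ S') = ⊤ := by
    refine top_unique fun x _ => ?_
    obtain ⟨x, hx⟩ := x
    have : x ∈ (Subfield.closure (Set.range (algebraMap (A ⧸ q) F) ∪ S')).map F.subtype := by
      rw [F.subtype.map_field_closure]
      refine Subfield.closure_mono ?_ hx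
      rintro y (⟨a, rfl⟩ | hy)
      · exact ⟨χ₀ a, Or.inl ⟨Ideal.Quotient.mk q a, rfl⟩, rfl⟩
      · exact ⟨⟨y, Subfield.subset_closure (Or.inr hy)⟩,
          Or.inr (Finset.mem_coe.2 (Finset.mem_image.2 ⟨⟨y, hy⟩, Finset.mem_attach _ _, rfl⟩)), rfl⟩
    obtain ⟨y, hy, hyx⟩ := this
    rwa [show (⟨x, hx⟩ : F) = y from Subtype.ext hyx.symm]
  haveI : (q₁.map (Ideal.Quotient.mk q)).IsPrime :=
    Ideal.map_isPrime_of_surjective Ideal.Quotient.mk_surjective (by rwa [Ideal.mk_ker])
  have hne' : q₁.map (Ideal.Quotient.mk q) ≠ ⊥ := by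
    rw [Ne, Ideal.map_eq_bot_iff_le_ker, Ideal.mk_ker]
    exact fun h' => hne (le_antisymm hle h')
  obtain ⟨W, hW, hWA⟩ := H11Val.exists_dvr_center (A := A ⧸ q) F hinj S' hgen
    (q₁.map (Ideal.Quotient.mk q)) hne'
  haveI := hW
  have hWχ : ∀ x, χ₀ x ∈ W := fun x => (hWA (Ideal.Quotient.mk q x)).1
  have hval : ∀ x, x ∈ q₁ ↔ W.valuation (χ₀ x) < 1 := fun x => by
    refine Iff.trans ?_ (hWA (Ideal.Quotient.mk q x)).2
    rw [← Ideal.mem_comap, Ideal.comap_map_of_surjective _ Ideal.Quotient.mk_surjective,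
      ← RingHom.ker_eq_comap_bot, Ideal.mk_ker, sup_eq_left.2 hle]
  obtain ⟨s, hs, hor⟩ := exists_of_dvr W (fun r => by rw [← χ₀.commutes]; exact hWχ _) q₁ χ₀ hWχ hval h
    a₀ b₀ (hj (by rw [map_mul, ha₀, hb₀, hab, map_zero]))
  refine ⟨j s, ?_, hor.imp (fun h1 => by rw [← ha₀, ← map_mul, h1, map_zero])
    (fun h1 => by rw [← hb₀, ← map_mul, h1, map_zero])⟩
  have he : ∀ z, eval χ (j z) = i (eval χ₀ z) := fun z => by
    induction z using TensorProduct.induction_on with
    | zero => simp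
    | tmul x y =>
      simp only [j, Algebra.TensorProduct.map_tmul, eval_tmul, map_mul]
      rfl
    | add y z hy hz => rw [map_add, map_add, map_add, map_add, hy, hz]
  rw [he]
  exact fun h0 => hs (Subtype.ext h0)

end Groth.Agent.H06GeomInt
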