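import Groth.Agent.H06GeomInt.Fields
import Groth.Agent.H21Taylor.GeomInt
import Groth.Agent.H7Flat.GeomInt.Counts

/-!
Geometrically integral fibres: geometrically pointwise integral and geometrically connected.
-/

set_option autoImplicit false
set_option linter.style.haveILetI false
set_option backward.isDefEq.respectTransparency false

open CategoryTheory CategoryTheory.Limits AlgebraicGeometry TopologicalSpace Topology

universe u

namespace Groth.Agent.H06GeomInt

theorem geometricallyIntegral_fiber_iff {X Y : Scheme.{u}} (f : X ⟶ Y) [LocallyOfFiniteType f] (y : Y) :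
    GeometricallyIntegral (f.fiberToSpecResidueField y) ↔
      (∀ v : ↥(f.fiber y), FBase.IsGeomPtIntegralAt (f.fiberToSpecResidueField y) v) ∧
        MoreMor.nGeomConnComp f y = 1 := by
  rw [← H7Flat.GeomInt.geometricallyConnected_fiber_iff]
  constructor
  · intro h
    refine ⟨fun v K _ _ z _ => ?_, ⟨geometrically_iff_of_isClosedUnderIsomorphisms.2 fun K _ a => ?_⟩⟩
    · haveI : IsIntegral (FBase.bc (f.fiberToSpecResidueField y) K) :=
        h.geometrically_isIntegral _ _ _ (IsPullback.of_hasPullback _ _)
      infer_instance
    · haveI : IsIntegral (pullback (f.fiberToSpecResidueField y) a) :=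
        h.geometrically_isIntegral _ _ _ (IsPullback.of_hasPullback _ _)
      infer_instance
  · rintro ⟨hloc, hconn⟩
    refine ⟨fun K _ a Z p q hpb => ?_⟩
    suffices h : IsIntegral (pullback (f.fiberToSpecResidueField y) a) by
      haveI := h
      haveI : Nonempty Z := hpb.isoPullback.hom.homeomorph.toEquiv.nonempty
      exact isIntegral_of_isOpenImmersion hpb.isoPullback.hom
    obtain ⟨θ, rfl⟩ := Spec.map_surjective a
    letI : Algebra (IsLocalRing.ResidueField (Y.presheaf.stalk y)) K := θ.hom.toAlgebra
    let W := pullback (f.fiberToSpecResidueField y) (Spec.map θ)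
    have hd : ∀ z : W, IsDomain (W.presheaf.stalk z) := fun z =>
      hloc ((pullback.fst (f.fiberToSpecResidueField y) (Spec.map θ)) z) K z rfl
    haveI : LocallyOfFiniteType (f.fiberToSpecResidueField y) :=
      MorphismProperty.pullback_snd f (Y.fromSpecResidueField y) ‹LocallyOfFiniteType f›
    haveI : LocallyOfFiniteType (pullback.snd (f.fiberToSpecResidueField y) (Spec.map θ)) := inferInstance
    haveI : IsLocallyNoetherian W :=
      LocallyOfFiniteType.isLocallyNoetherian (pullback.snd (f.fiberToSpecResidueField y) (Spec.map θ))
    haveI : ConnectedSpace W :=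
      hconn.geometrically_connectedSpace _ _ _ (IsPullback.of_hasPullback _ _)
    haveI : IrreducibleSpace W := H21Taylor.irreducibleSpace_of_connected_of_domain_stalks W hd
    haveI : ∀ z : W, _root_.IsReduced (W.presheaf.stalk z) := fun z => by haveI := hd z; infer_instance
    haveI : IsReduced W := isReduced_of_isReduced_stalk _
    exact (isIntegral_iff_irreducibleSpace_and_isReduced W).2 ⟨‹_›, ‹_›⟩

end Groth.Agent.H06GeomInt
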