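import Groth.Agent.H06GeomInt.Near
import Groth.Agent.H06GeomRed.Open
import Groth.Agent.H7Flat.GeomInt.Constructible
import Mathlib.RingTheory.Spectrum.Prime.ChevalleyComplexity
import Mathlib.RingTheory.Extension.Presentation.Core

/-!
The loci of points with geometrically pointwise integral fibre (EGA IV 9.9.4, 12.2.4).
-/

set_option autoImplicit false
set_option linter.style.haveILetI false
set_option backward.isDefEq.respectTransparency false

open CategoryTheory CategoryTheory.Limits AlgebraicGeometry TopologicalSpace Topology TensorProduct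

universe u

namespace Groth.Agent.H06GeomInt

section Affine

variable {R A : Type u} [CommRing R] [CommRing A] [Algebra R A]

theorem isConstructible_noetherian [IsNoetherianRing R] [Algebra.FiniteType R A] :
    IsConstructible {q : PrimeSpectrum A | GAt R q.asIdeal} := by
  haveI : IsNoetherianRing A := Algebra.FiniteType.isNoetherianRing R A
  haveI : IsNoetherianRing (CommRingCat.of A) := ‹IsNoetherianRing A›
  haveI : IsNoetherian (Spec (CommRingCat.of A)) := inferInstance
  have h := H7Flat.GeomInt.isConstructible_of_eventually_eq (S := Spec (CommRingCat.of A))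
    (fun q : PrimeSpectrum A => GAt R q.asIdeal) (fun y => ?_) True
  · convert! h using 1
    ext q
    exact ⟨fun h => eq_true h, fun h => of_eq_true h⟩
  · let q : PrimeSpectrum A := y
    haveI := q.isPrime
    by_cases hy : GAt R q.asIdeal
    · obtain ⟨c, hc, hgood⟩ := exists_near q.asIdeal hy
      refine ⟨PrimeSpectrum.basicOpen c, hc, fun y' hy' hsp => ?_⟩
      have hle : q.asIdeal ≤ (y' : PrimeSpectrum A).asIdeal := (PrimeSpectrum.le_iff_specializes q y').2 hsp
      exact propext (iff_of_true (hgood _ (y' : PrimeSpectrum A).isPrime (Ideal.comap_mono hle) hy') hy)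
    · obtain ⟨c, hc, hbad⟩ := exists_near_not q.asIdeal hy
      refine ⟨PrimeSpectrum.basicOpen c, hc, fun y' hy' hsp => ?_⟩
      have hle : q.asIdeal ≤ (y' : PrimeSpectrum A).asIdeal := (PrimeSpectrum.le_iff_specializes q y').2 hsp
      exact propext (iff_of_false (hbad _ (y' : PrimeSpectrum A).isPrime hle hy') hy)

theorem isOpen_noetherian [IsNoetherianRing R] [Algebra.FiniteType R A] [Module.Flat R A] :
    IsOpen {q : PrimeSpectrum A | GAt R q.asIdeal} := by
  haveI : IsNoetherianRing A := Algebra.FiniteType.isNoetherianRing R A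
  refine H06GeomRed.isOpen_of_generization (fun x z hzx hx => ?_) fun z hz => ?_
  · exact gAt_of_le ((PrimeSpectrum.le_iff_specializes z x).2 hzx) hx
  · obtain ⟨c, hc, hgood⟩ := exists_near z.asIdeal hz
    refine ⟨PrimeSpectrum.basicOpen c, (PrimeSpectrum.basicOpen c).2, hc, fun w ⟨hw, hzw⟩ => ?_⟩
    exact hgood _ w.isPrime
      (Ideal.comap_mono ((PrimeSpectrum.le_iff_specializes z w).2 (specializes_iff_mem_closure.2 hzw))) hw

theorem isConstructible_of_model {R₀ A₀ : Type u} [CommRing R₀] [CommRing A₀] [Algebra R₀ A₀] [Algebra R₀ R]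
    [IsNoetherianRing R₀] [Algebra.FiniteType R₀ A₀] (e : R ⊗[R₀] A₀ ≃ₐ[R] A) :
    IsConstructible {q : PrimeSpectrum A | GAt R q.asIdeal} := by
  convert! Scheme.Hom.isConstructible_preimage (Spec.map (CommRingCat.ofHom (incl e)))
    (s := {q : PrimeSpectrum A₀ | GAt R₀ q.asIdeal}) (isConstructible_noetherian (R := R₀) (A := A₀)) using 1
  ext q
  exact gAt_baseChange_iff e q.asIdeal

set_option backward.isDefEq.respectTransparency true in
theorem isConstructible_gAt [Algebra.FinitePresentation R A] :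
    IsConstructible {q : PrimeSpectrum A | GAt R q.asIdeal} := by
  let P := Algebra.Presentation.ofFinitePresentation R A
  let R₀ := Algebra.adjoin ℤ P.coeffs
  haveI : P.HasCoeffs R₀ := ⟨by simp [R₀]⟩
  haveI : Algebra.FiniteType ℤ R₀ := R₀.fg_iff_finiteType.1 ⟨P.finite_coeffs.toFinset, by simp [R₀]⟩
  haveI : IsNoetherianRing R₀ := Algebra.FiniteType.isNoetherianRing ℤ R₀
  exact isConstructible_of_model (P.tensorModelOfHasCoeffsEquiv R₀)

theorem isOpen_gAt [Algebra.FinitePresentation R A] [Module.Flat R A] :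
    IsOpen {q : PrimeSpectrum A | GAt R q.asIdeal} := by
  obtain ⟨R₀, hR₀, A₀, _, _, _, _, ⟨ε⟩⟩ := H13Flat.exists_flat_stage R A
  haveI : IsNoetherianRing R₀ := by
    haveI := R₀.fg_iff_finiteType.1 hR₀
    exact Algebra.FiniteType.isNoetherianRing ℤ R₀
  haveI : Algebra.FiniteType R₀ A₀ := inferInstance
  convert! (PrimeSpectrum.continuous_comap (incl ε)).isOpen_preimage _
    (isOpen_noetherian (R := R₀) (A := A₀)) using 1
  ext q
  exact gAt_baseChange_iff ε q.asIdeal

end Affine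

variable {X Y : Scheme.{u}}

/-- The locus of points where the fibre is geometrically pointwise integral. -/
def Locus (f : X ⟶ Y) : Set X :=
  {x | FBase.IsGeomPtIntegralAt (f.fiberToSpecResidueField (f.base x)) (f.asFiber x)}

theorem isDomain_of_stalkMap {W V : Scheme.{u}} (i : W ⟶ V) (w : W) [IsIso (i.stalkMap w)] :
    IsDomain (V.presheaf.stalk (i w)) ↔ IsDomain (W.presheaf.stalk w) := by
  let e := (asIso (i.stalkMap w)).commRingCatIsoToRingEquiv
  exact ⟨fun _ => e.symm.injective.isDomain e.symm.toRingHom, fun _ => e.injective.isDomain e.toRingHom⟩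

/-- Geometric pointwise integrality at a point of a fibre in terms of field valued points of the base. -/
theorem mem_locus_iff (f : X ⟶ Y) (x : X) :
    x ∈ Locus f ↔ ∀ (K : Type u) [Field K] (a : Spec (CommRingCat.of K) ⟶ Y) (z : ↥(pullback f a)),
      pullback.fst f a z = x → IsDomain ((pullback f a).presheaf.stalk z) := by
  constructor
  · intro h K _ a z hz
    obtain ⟨⟨y, θ⟩, rfl⟩ := (Scheme.SpecToEquivOfField K Y).symm.surjective a
    letI : Algebra (IsLocalRing.ResidueField (Y.presheaf.stalk y)) K := θ.hom.toAlgebra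
    let k₀ := Spec.map θ ≫ Y.fromSpecResidueField y
    have hy : f x = y := by
      rw [← hz]
      show (pullback.fst f k₀ ≫ f) z = y
      rw [pullback.condition, Scheme.Hom.comp_apply, Scheme.Hom.comp_apply, Scheme.fromSpecResidueField_apply]
    subst hy
    have hbig : IsPullback (FBase.bcπ (f.fiberToSpecResidueField (f x)) K ≫ f.fiberι (f x))
        (pullback.snd (f.fiberToSpecResidueField (f x)) (Spec.map θ)) f k₀ :=
      (IsPullback.of_hasPullback (f.fiberToSpecResidueField (f x)) (Spec.map θ)).paste_horiz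
        (IsPullback.of_hasPullback f (Y.fromSpecResidueField (f x)))
    let e := hbig.isoPullback
    have hu : (FBase.bcπ (f.fiberToSpecResidueField (f x)) K) (e.inv z) = f.asFiber x := by
      refine (f.fiberι (f x)).isEmbedding.injective ?_
      rw [f.fiberι_asFiber]
      refine Eq.trans ?_ hz
      exact congrArg (fun φ : pullback f k₀ ⟶ X => φ z) (hbig.isoPullback_inv_fst)
    exact (isDomain_of_stalkMap e.inv z).1 (h K (e.inv z) hu)
  · intro h K _ _ u hu
    let θ := Spec.map (CommRingCat.ofHom (algebraMap (IsLocalRing.ResidueField (Y.presheaf.stalk (f x))) K))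
    let k₀ := θ ≫ Y.fromSpecResidueField (f x)
    have hbig : IsPullback (FBase.bcπ (f.fiberToSpecResidueField (f x)) K ≫ f.fiberι (f x))
        (pullback.snd (f.fiberToSpecResidueField (f x)) θ) f k₀ :=
      (IsPullback.of_hasPullback (f.fiberToSpecResidueField (f x)) θ).paste_horiz
        (IsPullback.of_hasPullback f (Y.fromSpecResidueField (f x)))
    let e := hbig.isoPullback
    exact (isDomain_of_stalkMap e.hom u).1 (h K k₀ (e.hom u) (by
      rw [← Scheme.Hom.comp_apply, IsPullback.isoPullback_hom_fst, Scheme.Hom.comp_apply,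
        show (FBase.bcπ (f.fiberToSpecResidueField (f x)) K) u = f.asFiber x from hu]
      exact f.fiberι_asFiber x))

/-- For morphisms to a field the locus is the geometrically pointwise integral one. -/
theorem mem_locus_iff_field {k : Type u} [Field k] (f : X ⟶ Spec (CommRingCat.of k)) (x : X) :
    x ∈ Locus f ↔ FBase.IsGeomPtIntegralAt f x := by
  rw [mem_locus_iff]
  constructor
  · intro h K _ _ z hz
    exact h K _ z hz
  · intro h K _ a z hz
    obtain ⟨θ, rfl⟩ := Spec.map_surjective a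
    letI : Algebra k K := θ.hom.toAlgebra
    exact h K z hz

/-- The locus on a chart. -/
theorem mem_locus_iff_gAt (f : X ⟶ Y) {U : Y.Opens} (hU : IsAffineOpen U) {W : X.Opens} (hW : IsAffineOpen W)
    (e : W ≤ f ⁻¹ᵁ U) (x : X) (hx : x ∈ W) :
    x ∈ Locus f ↔ @GAt Γ(Y, U) _ Γ(X, W) _ (f.appLE U W e).hom.toAlgebra
      (hW.primeIdealOf ⟨x, hx⟩).asIdeal := by
  letI := (f.appLE U W e).hom.toAlgebra
  have hdom : ∀ (K : Type u) [Field K] [Algebra Γ(Y, U) K] (Q : PrimeSpectrum (K ⊗[Γ(Y, U)] Γ(X, W))),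
      IsDomain ((Spec (CommRingCat.of (K ⊗[Γ(Y, U)] Γ(X, W)))).presheaf.stalk Q) ↔ DomAt Q.asIdeal := by
    intro K _ _ Q
    letI : Algebra (CommRingCat.of (K ⊗[Γ(Y, U)] Γ(X, W)))
        ((Spec (CommRingCat.of (K ⊗[Γ(Y, U)] Γ(X, W)))).presheaf.stalk Q) := StructureSheaf.stalkAlgebra _ Q
    haveI : IsLocalization.AtPrime ((Spec (CommRingCat.of (K ⊗[Γ(Y, U)] Γ(X, W)))).presheaf.stalk Q) Q.asIdeal :=
      StructureSheaf.IsLocalization.to_stalk (CommRingCat.of (K ⊗[Γ(Y, U)] Γ(X, W))) Q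
    exact (domAt_iff_isDomain Q.asIdeal _).symm
  have hpt : ∀ (K : Type u) [Field K] [Algebra Γ(Y, U) K] (Q : PrimeSpectrum (K ⊗[Γ(Y, U)] Γ(X, W))),
      hW.fromSpec (PrimeSpectrum.comap (Algebra.TensorProduct.includeRight :
          Γ(X, W) →ₐ[Γ(Y, U)] K ⊗[Γ(Y, U)] Γ(X, W)).toRingHom Q) = x ↔
        Q.asIdeal.comap (Algebra.TensorProduct.includeRight :
          Γ(X, W) →ₐ[Γ(Y, U)] K ⊗[Γ(Y, U)] Γ(X, W)).toRingHom = (hW.primeIdealOf ⟨x, hx⟩).asIdeal := by
    intro K _ _ Q
    constructor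
    · intro h
      exact congrArg PrimeSpectrum.asIdeal (hW.fromSpec.isOpenEmbedding.injective
        (h.trans (hW.fromSpec_primeIdealOf ⟨x, hx⟩).symm))
    · intro h
      exact (congrArg hW.fromSpec (PrimeSpectrum.ext h)).trans (hW.fromSpec_primeIdealOf ⟨x, hx⟩)
  rw [mem_locus_iff]
  constructor
  · intro h
    refine gAt_of_forall_domAt fun K _ _ Q hQ hQq => ?_
    obtain ⟨j, hj, -, hjQ⟩ := H7Flat.GeomReduced.exists_chart f hU hW e K
    haveI := hj
    let Q' : PrimeSpectrum (K ⊗[Γ(Y, U)] Γ(X, W)) := ⟨Q, hQ⟩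
    exact (hdom K Q').1 ((isDomain_of_stalkMap j Q').1 (h K _ (j Q') ((hjQ Q').trans ((hpt K Q').2 hQq))))
  · intro h K _ a z hz
    obtain ⟨α, rfl⟩ : ∃ α : Γ(Y, U) ⟶ CommRingCat.of K, Spec.map α ≫ hU.fromSpec = a := by
      obtain ⟨α, hα⟩ := Spec.map_surjective (IsOpenImmersion.lift hU.fromSpec a (by
        rintro _ ⟨w, rfl⟩
        show a w ∈ Set.range hU.fromSpec
        rw [hU.range_fromSpec, Subsingleton.elim (α := PrimeSpectrum K) w (pullback.snd f a z), ← Scheme.Hom.comp_apply,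
          ← pullback.condition, Scheme.Hom.comp_apply, hz]
        exact e hx))
      exact ⟨α, by rw [hα, IsOpenImmersion.lift_fac]⟩
    letI := α.hom.toAlgebra
    obtain ⟨j, hj, hjr, hjQ⟩ := H7Flat.GeomReduced.exists_chart f hU hW e K
    haveI := hj
    obtain ⟨Q, rfl⟩ : z ∈ Set.range j := hjr.ge (by rw [Set.mem_preimage]; exact hz.symm ▸ hx)
    let Q' : PrimeSpectrum (K ⊗[Γ(Y, U)] Γ(X, W)) := Q
    exact (isDomain_of_stalkMap j Q).2 ((hdom K Q').2 (domAt_of_gAt h Q'.asIdeal ((hpt K Q').1 ((hjQ Q').symm.trans hz))))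

theorem preimage_fromSpec_locus (f : X ⟶ Y) {U : Y.Opens} (hU : IsAffineOpen U) {W : X.Opens}
    (hW : IsAffineOpen W) (e : W ≤ f ⁻¹ᵁ U) :
    hW.fromSpec ⁻¹' Locus f =
      {q : PrimeSpectrum Γ(X, W) | @GAt Γ(Y, U) _ Γ(X, W) _ (f.appLE U W e).hom.toAlgebra q.asIdeal} := by
  ext q
  have hmem : hW.fromSpec q ∈ W := hW.range_fromSpec.le ⟨q, rfl⟩
  have hq : hW.primeIdealOf ⟨_, hmem⟩ = q :=
    hW.fromSpec.isOpenEmbedding.injective (hW.fromSpec_primeIdealOf ⟨_, hmem⟩)
  rw [Set.mem_preimage, mem_locus_iff_gAt f hU hW e _ hmem, hq]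
  rfl

theorem exists_chart_nhd (f : X ⟶ Y) (x : X) (O : X.Opens) (hxO : x ∈ O) :
    ∃ (U : Y.Opens) (_ : IsAffineOpen U) (W : X.Opens), IsAffineOpen W ∧ x ∈ W ∧ W ≤ O ∧ W ≤ f ⁻¹ᵁ U := by
  obtain ⟨U, hU, hxU, -⟩ := exists_isAffineOpen_mem_and_subset (X := Y) (x := f x) (U := ⊤) trivial
  obtain ⟨W, hW, hxW, hWle⟩ := exists_isAffineOpen_mem_and_subset (U := O ⊓ f ⁻¹ᵁ U) (x := x) ⟨hxO, hxU⟩
  exact ⟨U, hU, W, hW, hxW, fun w hw => (hWle hw).1, fun w hw => (hWle hw).2⟩

/-- The locus of flatness with geometrically pointwise integral fibres is open. -/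
theorem isOpen_setOf_flat_and_mem_locus (f : X ⟶ Y) [LocallyOfFinitePresentation f] :
    IsOpen {x : X | (f.stalkMap x).hom.Flat ∧ x ∈ Locus f} := by
  refine isOpen_iff_forall_mem_open.mpr fun x ⟨hflat, hx⟩ => ?_
  obtain ⟨V, hV, W, hW, hxW, hWle, e⟩ := exists_chart_nhd f x
    ⟨_, H8Props.FlatLocus.isOpen_setOf_flat_stalkMap f⟩ hflat
  let φ := Spec.map (f.appLE V W e)
  have hsq : φ ≫ hV.fromSpec = hW.fromSpec ≫ f := IsAffineOpen.SpecMap_appLE_fromSpec f hV hW e
  letI := (f.appLE V W e).hom.toAlgebra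
  haveI : Algebra.FinitePresentation Γ(Y, V) Γ(X, W) := f.finitePresentation_appLE hV hW e
  haveI : Flat φ := by
    haveI : Flat (hW.fromSpec ≫ f) := (Flat.iff_flat_stalkMap _).mpr fun w => by
      rw [Scheme.Hom.stalkMap_comp]
      simp only [CommRingCat.hom_comp]
      exact RingHom.Flat.comp (hWle (hW.range_fromSpec.le ⟨w, rfl⟩))
        (RingHom.Flat.of_bijective (ConcreteCategory.bijective_of_isIso (hW.fromSpec.stalkMap w)))
    rw [← hsq] at this
    exact MorphismProperty.of_postcomp (W := @Flat) (W' := @IsOpenImmersion) φ hV.fromSpec inferInstance this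
  haveI : Module.Flat Γ(Y, V) Γ(X, W) := (HasRingHomProperty.Spec_iff (P := @Flat)).mp (inferInstanceAs (Flat φ))
  refine ⟨hW.fromSpec '' (hW.fromSpec ⁻¹' Locus f), ?_, hW.fromSpec.isOpenEmbedding.isOpenMap _ ?_, ?_⟩
  · rintro _ ⟨w, hw, rfl⟩
    exact ⟨hWle (hW.range_fromSpec.le ⟨w, rfl⟩), hw⟩
  · rw [preimage_fromSpec_locus f hV hW e]
    exact isOpen_gAt
  · obtain ⟨w, rfl⟩ := hW.range_fromSpec.ge hxW
    exact ⟨w, hx, rfl⟩

/-- The locus is open for flat morphisms. -/
theorem isOpen_locus (f : X ⟶ Y) [Flat f] [LocallyOfFinitePresentation f] : IsOpen (Locus f) := by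
  convert! isOpen_setOf_flat_and_mem_locus f using 1
  ext x
  exact ⟨fun hx => ⟨Flat.stalkMap f x, hx⟩, fun hx => hx.2⟩

/-- The locus is locally constructible. -/
theorem isLocallyConstructible_locus (f : X ⟶ Y) [LocallyOfFinitePresentation f] :
    IsLocallyConstructible (Locus f) := by
  intro x
  obtain ⟨V, hV, W, hW, hxW, -, e⟩ := exists_chart_nhd f x ⊤ trivial
  letI := (f.appLE V W e).hom.toAlgebra
  haveI : Algebra.FinitePresentation Γ(Y, V) Γ(X, W) := f.finitePresentation_appLE hV hW e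
  refine ⟨W, W.2.mem_nhds hxW, W.2, ?_⟩
  have hc : IsConstructible (hW.fromSpec ⁻¹' Locus f) := by
    rw [preimage_fromSpec_locus f hV hW e]
    exact isConstructible_gAt
  have hset : Subtype.val ⁻¹' Locus f = hW.isoSpec.hom ⁻¹' (hW.fromSpec ⁻¹' Locus f) := by
    ext w
    show w.1 ∈ Locus f ↔ hW.fromSpec (hW.isoSpec.hom w) ∈ Locus f
    rw [← Scheme.Hom.comp_apply, IsAffineOpen.isoSpec_hom_fromSpec]
    rfl
  exact hset ▸ hc.preimage_of_isOpenEmbedding hW.isoSpec.hom.isOpenEmbedding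

end Groth.Agent.H06GeomInt
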