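import Groth.Agent.H06GeomInt.Generization
import Groth.Agent.H7Flat.GeomInt.Domain
import Groth.Agent.H7Flat.GenericFreeness
import Mathlib.RingTheory.Spectrum.Prime.Topology
import Mathlib.RingTheory.Ideal.GoingUp

/-!
Geometric pointwise integrality near a point in the closure of that point (EGA IV 9.7.7, 9.9).
-/

set_option autoImplicit false
set_option linter.style.haveILetI false
set_option backward.isDefEq.respectTransparency false

universe u

open TensorProduct

namespace Groth.Agent.H06GeomInt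

variable {R A : Type u} [CommRing R] [CommRing A] [Algebra R A]

/-- Localizing a factor of a tensor product. -/
theorem exists_injective_away {B : Type u} [CommRing B] [Algebra R B] (M : Type u) [CommRing M] [Algebra R M]
    (h : B) :
    ∃ φ : M ⊗[R] Localization.Away h →ₐ[R] Localization.Away ((1 : M) ⊗ₜ[R] h),
      Function.Injective φ ∧ ∀ x, φ (Algebra.TensorProduct.map (AlgHom.id R M)
        (IsScalarTower.toAlgHom R B (Localization.Away h)) x) = algebraMap (M ⊗[R] B) _ x := by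
  let L := Localization.Away ((1 : M) ⊗ₜ[R] h)
  let γ : M ⊗[R] B →ₐ[R] L := IsScalarTower.toAlgHom R _ _
  let β : B →ₐ[R] L := γ.comp Algebra.TensorProduct.includeRight
  have hβ : ∀ y : Submonoid.powers h, IsUnit (β y) := by
    rintro ⟨_, n, rfl⟩
    show IsUnit (β (h ^ n))
    rw [map_pow]
    exact (IsLocalization.map_units L (⟨(1 : M) ⊗ₜ[R] h, 1, pow_one _⟩ : Submonoid.powers ((1 : M) ⊗ₜ[R] h))).pow n
  let β' : Localization.Away h →ₐ[R] L := IsLocalization.liftAlgHom hβ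
  let φ : M ⊗[R] Localization.Away h →ₐ[R] L :=
    Algebra.TensorProduct.lift (γ.comp Algebra.TensorProduct.includeLeft) β' fun _ _ => .all _ _
  let m : M ⊗[R] B →ₐ[R] M ⊗[R] Localization.Away h :=
    Algebra.TensorProduct.map (AlgHom.id R M) (IsScalarTower.toAlgHom R B (Localization.Away h))
  have hm : ∀ y : Submonoid.powers ((1 : M) ⊗ₜ[R] h), IsUnit (m y) := by
    rintro ⟨_, n, rfl⟩
    show IsUnit (m (((1 : M) ⊗ₜ[R] h) ^ n))
    rw [map_pow]
    refine IsUnit.pow n ?_
    exact (IsLocalization.map_units (Localization.Away h) (⟨h, 1, pow_one _⟩ : Submonoid.powers h)).map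
      (Algebra.TensorProduct.includeRight : Localization.Away h →ₐ[R] M ⊗[R] Localization.Away h)
  let ψ : L →ₐ[R] M ⊗[R] Localization.Away h := IsLocalization.liftAlgHom hm
  have hφm : φ.comp m = γ := by
    refine Algebra.TensorProduct.ext' fun x b => ?_
    simp only [AlgHom.comp_apply, m, φ, Algebra.TensorProduct.map_tmul, Algebra.TensorProduct.lift_tmul,
      AlgHom.id_apply]
    rw [show β' ((IsScalarTower.toAlgHom R B (Localization.Away h)) b) = β b from
      IsLocalization.lift_eq (S := Localization.Away h) hβ b]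
    simp only [β, AlgHom.comp_apply, ← map_mul, Algebra.TensorProduct.includeLeft_apply,
      Algebra.TensorProduct.includeRight_apply, Algebra.TensorProduct.tmul_mul_tmul, mul_one, one_mul]
  have hψγ : ∀ x, ψ (γ x) = m x := fun x => IsLocalization.lift_eq hm x
  have hid : ψ.comp φ = AlgHom.id R _ := by
    refine Algebra.TensorProduct.ext ?_ ?_
    · refine AlgHom.ext fun x => ?_
      simp only [AlgHom.comp_apply, φ, Algebra.TensorProduct.includeLeft_apply, Algebra.TensorProduct.lift_tmul,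
        map_one, mul_one, hψγ]
      simp [m]
    · refine IsLocalization.algHom_ext (Submonoid.powers h) (AlgHom.ext fun b => ?_)
      show ψ (φ ((1 : M) ⊗ₜ algebraMap B (Localization.Away h) b)) = _
      simp only [φ, Algebra.TensorProduct.lift_tmul, map_one, one_mul]
      rw [show β' (algebraMap B (Localization.Away h) b) = β b from IsLocalization.lift_eq hβ b]
      show ψ (γ ((1 : M) ⊗ₜ b)) = _
      rw [hψγ]
      simp only [m, Algebra.TensorProduct.map_tmul, AlgHom.id_apply]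
      rfl
  exact ⟨φ, Function.LeftInverse.injective (g := ψ) fun x => AlgHom.congr_fun hid x,
    fun x => AlgHom.congr_fun hφm x⟩

/-- Over a domain with algebraically closed fraction field, a uniformly integral open piece of the generic
fibre spreads. -/
theorem exists_spread [IsDomain R] (K : Type u) [Field K] [Algebra R K] [IsFractionRing R K] [IsAlgClosed K]
    [Algebra.FiniteType R A] (Q : Ideal (K ⊗[R] A)) [Q.IsPrime] (hQ : DomAt Q) :
    ∃ (h : A) (r : R), r ≠ 0 ∧ (1 : K) ⊗ₜ[R] h ∉ Q ∧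
      ∀ (M : Type u) [Field M] [Algebra R M] (χ : A →ₐ[R] M), χ h ≠ 0 → algebraMap R M r ≠ 0 → DomPt χ := by
  haveI : IsNoetherianRing (K ⊗[R] A) := Algebra.FiniteType.isNoetherianRing K _
  obtain ⟨f, hf, huni⟩ := exists_uniform_of_domAt Q hQ
  obtain ⟨u, hu, h, hh⟩ : ∃ u : R, u ≠ 0 ∧ ∃ h : A, algebraMap R (K ⊗[R] A) u * f = 1 ⊗ₜ h := by
    obtain ⟨⟨a, r, hr⟩, ha⟩ := IsLocalizedModule.surj (nonZeroDivisors R) (TensorProduct.mk R K A 1) f
    exact ⟨r, nonZeroDivisors.ne_zero hr, a, by rw [← Algebra.smul_def]; exact ha⟩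
  have hunit : IsUnit (algebraMap R (K ⊗[R] A) u) := by
    rw [IsScalarTower.algebraMap_apply R K (K ⊗[R] A)]
    exact ((map_ne_zero_iff _ (IsFractionRing.injective R K)).2 hu).isUnit.map _
  have hhQ : (1 : K) ⊗ₜ[R] h ∉ Q := fun hm => hf ((Ideal.unit_mul_mem_iff_mem Q hunit).1 (hh ▸ hm))
  have huni' : ∀ a b : K ⊗[R] A, a * b = 0 → (1 : K) ⊗ₜ[R] h * a = 0 ∨ (1 : K) ⊗ₜ[R] h * b = 0 :=
    fun a b hab => (huni a b hab).imp (fun h1 => by rw [← hh, mul_assoc, h1, mul_zero])
      (fun h1 => by rw [← hh, mul_assoc, h1, mul_zero])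
  haveI : IsDomain (Localization.Away ((1 : K) ⊗ₜ[R] h)) := by
    let L := Localization.Away ((1 : K) ⊗ₜ[R] h)
    haveI : Nontrivial L := by
      refine ⟨⟨0, 1, fun h01 => ?_⟩⟩
      rw [← map_one (algebraMap (K ⊗[R] A) L), eq_comm,
        IsLocalization.map_eq_zero_iff (Submonoid.powers ((1 : K) ⊗ₜ[R] h))] at h01
      obtain ⟨⟨_, n, rfl⟩, hn⟩ := h01
      rw [mul_one] at hn
      exact hhQ (Ideal.IsPrime.mem_of_pow_mem ‹_› n
        (by rw [show ((1 : K) ⊗ₜ[R] h) ^ n = 0 from hn]; exact zero_mem Q))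
    haveI : NoZeroDivisors L := by
      refine ⟨fun {x y} hxy => ?_⟩
      obtain ⟨⟨a, s⟩, ha⟩ := IsLocalization.surj (Submonoid.powers ((1 : K) ⊗ₜ[R] h)) x
      obtain ⟨⟨b, t⟩, hb⟩ := IsLocalization.surj (Submonoid.powers ((1 : K) ⊗ₜ[R] h)) y
      have h0 : algebraMap _ L (a * b) = 0 := by
        rw [map_mul, ← ha, ← hb, mul_mul_mul_comm, hxy, zero_mul]
      obtain ⟨m, hm⟩ := (IsLocalization.map_eq_zero_iff (Submonoid.powers ((1 : K) ⊗ₜ[R] h)) L _).1 h0
      rw [← mul_assoc] at hm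
      have hh1 : (1 : K) ⊗ₜ[R] h ∈ Submonoid.powers ((1 : K) ⊗ₜ[R] h) := ⟨1, pow_one _⟩
      rcases huni' _ _ hm with h1 | h1
      · left
        have h2 : algebraMap _ L a = 0 := (IsLocalization.map_eq_zero_iff (Submonoid.powers ((1 : K) ⊗ₜ[R] h)) L _).2
          ⟨⟨_, mul_mem hh1 m.2⟩, by rw [← h1]; ring⟩
        rw [h2] at ha
        exact (IsUnit.mul_left_eq_zero (IsLocalization.map_units L s)).1 ha
      · right
        have h2 : algebraMap _ L b = 0 := (IsLocalization.map_eq_zero_iff (Submonoid.powers ((1 : K) ⊗ₜ[R] h)) L _).2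
          ⟨⟨_, hh1⟩, h1⟩
        rw [h2] at hb
        exact (IsUnit.mul_left_eq_zero (IsLocalization.map_units L t)).1 hb
    exact NoZeroDivisors.to_isDomain L
  obtain ⟨φK, hφK, hφK'⟩ := exists_injective_away (R := R) (B := A) K h
  haveI : IsDomain (K ⊗[R] Localization.Away h) := hφK.isDomain φK.toRingHom
  haveI : Algebra.FiniteType R (Localization.Away h) := Algebra.FiniteType.trans (S := A) inferInstance inferInstance
  obtain ⟨r, hr, hdom⟩ := H7Flat.GeomInt.exists_isDomain_fibres (R := R) K (Localization.Away h)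
  refine ⟨h, r, hr, hhQ, fun M _ _ χ hχ hrM a b hab => ?_⟩
  haveI := hdom M hrM
  obtain ⟨φ, -, hφ'⟩ := exists_injective_away (R := R) (B := A) M h
  let m := Algebra.TensorProduct.map (AlgHom.id R M) (IsScalarTower.toAlgHom R A (Localization.Away h))
  have key : ∀ x, m x = 0 → ∃ s, eval χ s ≠ 0 ∧ s * x = 0 := fun x hx => by
    have h0 : algebraMap _ (Localization.Away ((1 : M) ⊗ₜ[R] h)) x = 0 := by rw [← hφ', hx, map_zero]
    obtain ⟨⟨_, n, rfl⟩, hn⟩ := (IsLocalization.map_eq_zero_iff (Submonoid.powers ((1 : M) ⊗ₜ[R] h)) _ x).1 h0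
    exact ⟨((1 : M) ⊗ₜ[R] h) ^ n, by rw [map_pow, eval_tmul, one_mul]; exact pow_ne_zero n hχ, hn⟩
  rcases mul_eq_zero.1 (show m a * m b = 0 by rw [← map_mul, hab, map_zero]) with h1 | h1
  · obtain ⟨s, hs, hs'⟩ := key a h1
    exact ⟨s, hs, Or.inl hs'⟩
  · obtain ⟨s, hs, hs'⟩ := key b h1
    exact ⟨s, hs, Or.inr hs'⟩

theorem exists_near_of [Algebra.FiniteType R A] (q : Ideal A) [q.IsPrime] (hq : GAt R q)
    (Rb : Type u) [CommRing Rb] [IsDomain Rb] [Algebra R Rb] [Algebra.IsIntegral R Rb]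
    (Ω : Type u) [Field Ω] [Algebra Rb Ω] [IsFractionRing Rb Ω] [IsAlgClosed Ω]
    (hker : RingHom.ker (algebraMap R Rb) = q.comap (algebraMap R A)) :
    ∃ c, c ∉ q ∧ ∀ q₁ : Ideal A, q₁.IsPrime → q.comap (algebraMap R A) ≤ q₁.comap (algebraMap R A) →
      c ∉ q₁ → GAt R q₁ := by
  let B := Rb ⊗[R] A
  let e : Rb ⊗[R] A ≃ₐ[Rb] B := AlgEquiv.refl
  let g : A →+* B := incl e
  let G : Set (PrimeSpectrum B) := {Q | ∃ (h : B) (r : Rb), h ∉ Q.asIdeal ∧ algebraMap Rb B r ∉ Q.asIdeal ∧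
    ∀ (M : Type u) [Field M] [Algebra Rb M] (χ : B →ₐ[Rb] M), χ h ≠ 0 → algebraMap Rb M r ≠ 0 → DomPt χ}
  have hG : IsOpen G := isOpen_iff_forall_mem_open.2 fun Q ⟨h, r, hh, hr, hdom⟩ =>
    ⟨(PrimeSpectrum.basicOpen h : Set _) ∩ PrimeSpectrum.basicOpen (algebraMap Rb B r),
      fun Q' hQ' => ⟨h, r, hQ'.1, hQ'.2, hdom⟩,
      (PrimeSpectrum.basicOpen h).2.inter (PrimeSpectrum.basicOpen _).2, hh, hr⟩
  have hint : g.IsIntegral := by
    intro x
    induction x using TensorProduct.induction_on with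
    | zero => exact g.isIntegralElem_zero
    | add y z hy hz => exact hy.add g hz
    | tmul x a =>
      have hx : IsIntegral R x := Algebra.IsIntegral.isIntegral x
      have h1 : g.IsIntegralElem (x ⊗ₜ[R] (1 : A)) := by
        obtain ⟨P, hP, hP'⟩ := hx.map (Algebra.TensorProduct.includeLeft : Rb →ₐ[R] B)
        refine ⟨P.map (algebraMap R A), hP.map _, ?_⟩
        rw [Polynomial.eval₂_map]
        convert hP' using 2
        swap; · rfl
        exact RingHom.ext fun r => incl_algebraMap e r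
      have h2 : x ⊗ₜ[R] a = (x ⊗ₜ[R] (1 : A)) * g a := by
        show _ = _ * ((1 : Rb) ⊗ₜ[R] a)
        rw [Algebra.TensorProduct.tmul_mul_tmul, mul_one, one_mul]
      rw [h2]
      exact h1.mul g (g.isIntegralElem_map)
  have himage : IsClosed (PrimeSpectrum.comap g '' Gᶜ) :=
    PrimeSpectrum.isClosedMap_comap_of_isIntegral g hint _ hG.isClosed_compl
  have hqnot : (⟨q, inferInstance⟩ : PrimeSpectrum A) ∉ PrimeSpectrum.comap g '' Gᶜ := by
    rintro ⟨⟨Q, hQp⟩, hQG, hQq⟩
    have hQq' : Q.comap g = q := congrArg PrimeSpectrum.asIdeal hQq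
    haveI := hQp
    have hP : Q.comap (algebraMap Rb B) = ⊥ := by
      by_contra hne
      obtain ⟨x, hx, hx0⟩ := Submodule.exists_mem_ne_zero_of_ne_bot hne
      refine (Ideal.comap_lt_comap_of_integral_mem_sdiff (R := R) (I := (⊥ : Ideal Rb))
        (J := Q.comap (algebraMap Rb B)) bot_le ⟨hx, fun h => hx0 (Ideal.mem_bot.1 h)⟩
        (Algebra.IsIntegral.isIntegral x)).ne ?_
      rw [← RingHom.ker_eq_comap_bot, hker, ← hQq']
      ext r
      simp only [Ideal.mem_comap]
      rw [incl_algebraMap]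
    let F := Q.ResidueField
    have hRbF : Function.Injective (algebraMap Rb F) := by
      rw [RingHom.injective_iff_ker_eq_bot, ← hP]
      ext x
      exact Ideal.algebraMap_residueField_eq_zero
    let j : Ω →+* F := IsFractionRing.lift hRbF
    letI : Algebra Ω F := j.toAlgebra
    haveI : IsScalarTower Rb Ω F := IsScalarTower.of_algebraMap_eq fun x => (IsFractionRing.lift_algebraMap hRbF x).symm
    let ψ : Ω ⊗[Rb] B →ₐ[Ω] F :=
      Algebra.TensorProduct.lift (Algebra.ofId Ω F) (IsScalarTower.toAlgHom Rb B F) fun _ _ => .all _ _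
    let Qh : Ideal (Ω ⊗[Rb] B) := RingHom.ker ψ.toRingHom
    haveI : Qh.IsPrime := RingHom.ker_isPrime _
    have hcomap : Qh.comap (Algebra.TensorProduct.includeRight : B →ₐ[Rb] Ω ⊗[Rb] B).toRingHom = Q := by
      ext x
      rw [Ideal.mem_comap, RingHom.mem_ker]
      show ψ ((1 : Ω) ⊗ₜ x) = 0 ↔ _
      simp only [ψ, Algebra.TensorProduct.lift_tmul, map_one, one_mul]
      exact Ideal.algebraMap_residueField_eq_zero
    have hgQ : GAt Rb Q := gAt_baseChange e (show GAt R (Q.comap g) from hQq' ▸ hq)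
    haveI : Algebra.FiniteType Rb B := inferInstance
    obtain ⟨h, r, hr, hh, hdom⟩ := exists_spread (R := Rb) Ω Qh (domAt_of_gAt hgQ Qh hcomap)
    refine hQG ⟨h, r, fun hm => hh ?_, fun hm => hr ?_, hdom⟩
    · exact hcomap.ge (show h ∈ Q from hm)
    · exact (Ideal.mem_bot.1 (hP ▸ (show r ∈ Q.comap (algebraMap Rb B) from hm)))
  obtain ⟨_, ⟨c, rfl⟩, hcq, hcsub⟩ := PrimeSpectrum.isTopologicalBasis_basic_opens.exists_subset_of_mem_open
    hqnot himage.isOpen_compl
  refine ⟨c, hcq, fun q₁ _ hle hc => ?_⟩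
  intro K _ _ χ hχ
  let p₁ := q₁.comap (algebraMap R A)
  haveI : p₁.IsPrime := Ideal.comap_isPrime _ _
  obtain ⟨P₁, -, hP₁⟩ := Ideal.exists_ideal_over_prime_of_isIntegral (S := Rb) p₁ ⊥
    (by rw [← RingHom.ker_eq_comap_bot, hker]; exact hle)
  haveI := hP₁.1
  have hP₁R : P₁.comap (algebraMap R Rb) = p₁ := hP₁.2
  have hK : RingHom.ker (algebraMap R K) = p₁ := by
    ext r
    rw [RingHom.mem_ker, Ideal.mem_comap, ← χ.commutes, ← hχ]
    rfl
  let φ : p₁.ResidueField →+* K := Ideal.ResidueField.lift p₁ (algebraMap R K) hK.ge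
    (fun a ha => isUnit_iff_ne_zero.2 fun h0 => ha (hK.le h0))
  let ψ : p₁.ResidueField →+* P₁.ResidueField := Ideal.ResidueField.map p₁ P₁ (algebraMap R Rb) hP₁R.symm
  obtain ⟨M, _, aK, bP, hab⟩ := H8Props.GeometricDescent.exists_compositum φ ψ
  letI : Algebra Rb M := (bP.comp (algebraMap Rb P₁.ResidueField)).toAlgebra
  letI : Algebra R M := ((algebraMap Rb M).comp (algebraMap R Rb)).toAlgebra
  haveI : IsScalarTower R Rb M := IsScalarTower.of_algebraMap_eq fun _ => rfl
  let i : K →ₐ[R] M :=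
    { aK with
      commutes' := fun r => by
        have h1 := RingHom.congr_fun hab (algebraMap R p₁.ResidueField r)
        rw [RingHom.comp_apply, RingHom.comp_apply] at h1
        show aK (algebraMap R K r) = bP (algebraMap Rb P₁.ResidueField (algebraMap R Rb r))
        convert h1 using 2
        · exact (Ideal.ResidueField.lift_algebraMap p₁ _ _ _ r).symm
        · exact (Ideal.ResidueField.map_algebraMap p₁ P₁ _ hP₁R.symm r).symm }
  let χB : B →ₐ[Rb] M := Algebra.TensorProduct.lift (Algebra.ofId Rb M) (i.comp χ) fun _ _ => .all _ _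
  have hχB : ∀ a, (i.comp χ) a = χB (e ((1 : Rb) ⊗ₜ a)) := fun a => by
    show _ = χB ((1 : Rb) ⊗ₜ a)
    exact ((Algebra.TensorProduct.lift_tmul _ _ _ (1 : Rb) a).trans (by rw [map_one, one_mul])).symm
  let Q₁ : PrimeSpectrum B := ⟨RingHom.ker χB.toRingHom, RingHom.ker_isPrime _⟩
  have hQ₁ : Q₁.asIdeal.comap g = q₁ := by
    rw [← hχ]
    ext a
    rw [Ideal.mem_comap, RingHom.mem_ker, RingHom.mem_ker]
    show χB (e ((1 : Rb) ⊗ₜ a)) = 0 ↔ _
    rw [← hχB]
    exact map_eq_zero_iff _ i.toRingHom.injective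
  have hQ₁G : Q₁ ∈ G := by
    by_contra hn
    refine hcsub (show (PrimeSpectrum.comap g Q₁) ∈ PrimeSpectrum.basicOpen c from ?_) ⟨Q₁, hn, rfl⟩
    show c ∉ Q₁.asIdeal.comap g
    rwa [hQ₁]
  obtain ⟨h, r, hh, hr, hdom⟩ := hQ₁G
  refine DomPt.descend i ((domPt_baseChange_iff e χB (i.comp χ) hχB).1 (hdom M χB hh ?_))
  intro h0
  exact hr (show χB (algebraMap Rb B r) = 0 by rw [χB.commutes, h0])

/-- Good points have good neighbourhoods in their closure. -/
theorem exists_near [Algebra.FiniteType R A] (q : Ideal A) [q.IsPrime] (hq : GAt R q) :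
    ∃ c, c ∉ q ∧ ∀ q₁ : Ideal A, q₁.IsPrime → q.comap (algebraMap R A) ≤ q₁.comap (algebraMap R A) →
      c ∉ q₁ → GAt R q₁ := by
  let p := q.comap (algebraMap R A)
  haveI : p.IsPrime := Ideal.comap_isPrime _ _
  let K₀ := FractionRing (R ⧸ p)
  let Ω := AlgebraicClosure K₀
  let Rb := integralClosure (R ⧸ p) Ω
  haveI : Algebra.IsAlgebraic (R ⧸ p) Ω := IsFractionRing.comap_isAlgebraic_iff.mpr
    (inferInstance : Algebra.IsAlgebraic K₀ Ω)
  haveI : IsFractionRing Rb Ω := integralClosure.isFractionRing_of_algebraic fun z hz => by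
    rw [IsScalarTower.algebraMap_apply (R ⧸ p) K₀ Ω, map_eq_zero] at hz
    exact IsFractionRing.to_map_eq_zero_iff.1 hz
  have hinj : Function.Injective (algebraMap (R ⧸ p) Rb) := fun a b hab => by
    have := congrArg (algebraMap Rb Ω) hab
    rw [← IsScalarTower.algebraMap_apply, ← IsScalarTower.algebraMap_apply,
      IsScalarTower.algebraMap_apply (R ⧸ p) K₀ Ω, IsScalarTower.algebraMap_apply (R ⧸ p) K₀ Ω] at this
    exact IsFractionRing.injective _ _ ((algebraMap K₀ Ω).injective this)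
  haveI : Algebra.IsIntegral R Rb := Algebra.IsIntegral.trans (A := R ⧸ p)
  refine exists_near_of q hq Rb Ω ?_
  rw [IsScalarTower.algebraMap_eq R (R ⧸ p) Rb, RingHom.ker_comp_of_injective _ hinj,
    Ideal.Quotient.algebraMap_eq, Ideal.mk_ker]

theorem flat_baseChange_baseChange (S T : Type u) [CommRing S] [CommRing T] [Algebra R S] [Algebra R T]
    [Algebra S T] [IsScalarTower R S T] [Module.Flat T (T ⊗[S] (S ⊗[R] A))] : Module.Flat T (T ⊗[R] A) :=
  Module.Flat.of_linearEquiv (Algebra.TensorProduct.cancelBaseChange R S T T A).symm.toLinearEquiv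

/-- Bad points have bad neighbourhoods in their closure. -/
theorem exists_near_not [IsNoetherianRing R] [Algebra.FiniteType R A] (q : Ideal A) [q.IsPrime] (hq : ¬ GAt R q) :
    ∃ c, c ∉ q ∧ ∀ q₁ : Ideal A, q₁.IsPrime → q ≤ q₁ → c ∉ q₁ → ¬ GAt R q₁ := by
  let p := q.comap (algebraMap R A)
  haveI : p.IsPrime := Ideal.comap_isPrime _ _
  let Rq := R ⧸ p
  obtain ⟨f, hf, hfree⟩ := H7Flat.exists_isAwayFree_of_finiteType (R := Rq) (Rq ⊗[R] A) (Rq ⊗[R] A)
  have hfr := hfree.free_baseChange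
  let R' := Localization.Away f
  haveI : IsNoetherianRing R' := IsLocalization.isNoetherianRing (Submonoid.powers f) R' inferInstance
  let A' := R' ⊗[R] A
  haveI : Module.Flat R' A' := @flat_baseChange_baseChange R A _ _ _ Rq R' _ _ _ _ _ _
    (@Module.Flat.of_free R' (R' ⊗[Rq] (Rq ⊗[R] A)) _ _ _ hfr)
  obtain ⟨f₀, rfl⟩ := Ideal.Quotient.mk_surjective f
  have hf₀ : f₀ ∉ p := fun h => hf (Ideal.Quotient.eq_zero_iff_mem.2 h)
  let e : R' ⊗[R] A ≃ₐ[R'] A' := AlgEquiv.refl
  have hlift : ∀ q₁ : Ideal A, q₁.IsPrime → q ≤ q₁ → algebraMap R A f₀ ∉ q₁ →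
      ∃ q' : Ideal A', q'.IsPrime ∧ q'.comap (incl e) = q₁ := by
    intro q₁ _ hle hfq
    let F := q₁.ResidueField
    have hp : ∀ r ∈ p, algebraMap R F r = 0 := fun r hr => by
      rw [IsScalarTower.algebraMap_apply R A F, Ideal.algebraMap_residueField_eq_zero]
      exact hle hr
    let φ₁ : Rq →+* F := Ideal.Quotient.lift p (algebraMap R F) hp
    have hu : IsUnit (φ₁ (Ideal.Quotient.mk p f₀)) := by
      refine isUnit_iff_ne_zero.2 ?_
      show algebraMap R F f₀ ≠ 0
      rwa [IsScalarTower.algebraMap_apply R A F, Ne, Ideal.algebraMap_residueField_eq_zero]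
    letI : Algebra R' F := (IsLocalization.Away.lift (Ideal.Quotient.mk p f₀) hu : R' →+* F).toAlgebra
    haveI : IsScalarTower R R' F := IsScalarTower.of_algebraMap_eq fun r => by
      rw [IsScalarTower.algebraMap_apply R Rq R']
      exact (IsLocalization.Away.lift_eq (Ideal.Quotient.mk p f₀) hu (algebraMap R Rq r)).symm
    let χ : A' →ₐ[R'] F :=
      Algebra.TensorProduct.lift (Algebra.ofId R' F) (IsScalarTower.toAlgHom R A F) fun _ _ => .all _ _
    refine ⟨RingHom.ker χ.toRingHom, RingHom.ker_isPrime _, ?_⟩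
    ext a
    rw [Ideal.mem_comap, RingHom.mem_ker]
    show χ ((1 : R') ⊗ₜ a) = 0 ↔ _
    rw [show χ ((1 : R') ⊗ₜ a) = algebraMap A F a from
      (Algebra.TensorProduct.lift_tmul _ _ _ (1 : R') a).trans (by rw [map_one, one_mul]; rfl)]
    exact Ideal.algebraMap_residueField_eq_zero
  refine ⟨algebraMap R A f₀, hf₀, fun q₁ hq₁ hle hc hgood => hq ?_⟩
  obtain ⟨q₁', hq₁', hq₁c⟩ := hlift q₁ hq₁ hle hc
  obtain ⟨q', hq', hqc⟩ := hlift q inferInstance le_rfl hf₀
  haveI := hq₁'
  haveI := hq'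
  refine gAt_of_baseChange e hqc (gAt_of_le (q₁ := q₁') ?_ (gAt_baseChange e (hq₁c ▸ hgood)))
  intro x hx
  have hrep : ∀ x : A', ∃ (n : ℕ) (a : A), incl e (algebraMap R A (f₀ ^ n)) * x = incl e a := by
    intro x
    induction x using TensorProduct.induction_on with
    | zero => exact ⟨0, 0, by rw [map_zero, mul_zero]⟩
    | tmul w a =>
      obtain ⟨⟨z, _, n, rfl⟩, hz⟩ := IsLocalization.surj (Submonoid.powers (Ideal.Quotient.mk p f₀)) w
      obtain ⟨z, rfl⟩ := Ideal.Quotient.mk_surjective z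
      refine ⟨n, algebraMap R A z * a, ?_⟩
      have h1 : algebraMap R R' (f₀ ^ n) * w = algebraMap R R' z := by
        rw [mul_comm]
        exact hz
      rw [map_mul, incl_algebraMap, incl_algebraMap]
      show algebraMap R R' (f₀ ^ n) ⊗ₜ[R] (1 : A) * w ⊗ₜ[R] a =
        algebraMap R R' z ⊗ₜ[R] (1 : A) * (1 : R') ⊗ₜ[R] a
      rw [Algebra.TensorProduct.tmul_mul_tmul, Algebra.TensorProduct.tmul_mul_tmul, h1, mul_one, one_mul]
    | add y z hy hz =>
      obtain ⟨n, a, ha⟩ := hy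
      obtain ⟨m, b, hb⟩ := hz
      refine ⟨n + m, algebraMap R A (f₀ ^ m) * a + algebraMap R A (f₀ ^ n) * b, ?_⟩
      rw [map_add, map_mul, map_mul, ← ha, ← hb]
      simp only [pow_add, map_mul]
      ring
  obtain ⟨n, a, ha⟩ := hrep x
  have h1 : a ∈ q := by
    rw [← hqc]
    show incl e a ∈ q'
    exact ha ▸ Ideal.mul_mem_left _ _ hx
  have h2 : incl e a ∈ q₁' := by
    show a ∈ q₁'.comap (incl e)
    rw [hq₁c]
    exact hle h1
  rw [← ha] at h2
  refine (hq₁'.mem_or_mem h2).resolve_left fun h3 => hc (hq₁.mem_of_pow_mem n ?_)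
  rw [← map_pow, ← hq₁c]
  exact h3

end Groth.Agent.H06GeomInt
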