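import Groth.Agent.H06GeomInt.Near
import Groth.Agent.H3CAlg.Mori.Main

/-!
Over a geometrically unibranch base, a point with geometrically pointwise integral flat fibre lies on only
one irreducible component (EGA IV 15.3).
-/

set_option autoImplicit false
set_option linter.style.haveILetI false
set_option backward.isDefEq.respectTransparency false

universe u

open TensorProduct

namespace Groth.Agent.H06GeomInt

/-- Below a point of integrality there is a least prime, whose elements vanish near the point. -/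
theorem exists_least_of_domAt {C : Type u} [CommRing C] (Q : Ideal C) [Q.IsPrime] (h : DomAt Q) :
    ∃ L : Ideal C, L.IsPrime ∧ L ≤ Q ∧ (∀ P : Ideal C, P.IsPrime → P ≤ Q → L ≤ P) ∧
      ∀ x ∈ L, ∃ s, s ∉ Q ∧ s * x = 0 := by
  let T := Localization.AtPrime Q
  haveI : IsDomain T := (domAt_iff_isDomain Q T).1 h
  have hk : ∀ x ∈ RingHom.ker (algebraMap C T), ∃ s, s ∉ Q ∧ s * x = 0 := fun x hx => by
    obtain ⟨m, hm⟩ := (IsLocalization.map_eq_zero_iff Q.primeCompl T x).1 hx
    exact ⟨m, m.2, hm⟩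
  have hle : ∀ P : Ideal C, P.IsPrime → P ≤ Q → RingHom.ker (algebraMap C T) ≤ P := fun P hP hPQ x hx => by
    obtain ⟨s, hs, h0⟩ := hk x hx
    exact (hP.mem_or_mem (h0 ▸ zero_mem P)).resolve_left fun hm => hs (hPQ hm)
  exact ⟨_, RingHom.ker_isPrime _, hle Q inferInstance le_rfl, hle, hk⟩

/-- Separating two minimal primes in a neighbourhood of a set of points of integrality. -/
theorem exists_split {C : Type u} [CommRing C] [IsNoetherianRing C] (M : Submonoid C)
    (h : ∀ Q : Ideal C, Q.IsPrime → Disjoint (M : Set C) Q → DomAt Q)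
    {L₁ L₂ : Ideal C} (h₁ : L₁ ∈ minimalPrimes C) (h₂ : L₂ ∈ minimalPrimes C) (hne : L₁ ≠ L₂) :
    ∃ a, ∃ t ∈ M, a * (t - a) = 0 ∧ a ∈ L₁ ∧ t - a ∈ L₂ := by
  classical
  let F := ((minimalPrimes.finite_of_isNoetherianRing C).toFinset).filter fun L => L ≠ L₁
  let I₂ := F.inf id
  have hdisj : ∃ t ∈ M, t ∈ L₁ ⊔ I₂ := by
    by_contra hc
    push Not at hc
    obtain ⟨Q, hQ, hle, hd⟩ := Ideal.exists_le_prime_disjoint (L₁ ⊔ I₂) M
      (Set.disjoint_left.2 fun x hx hxM => hc x hxM hx)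
    obtain ⟨L, hL, hLQ⟩ := (Ideal.IsPrime.inf_le' hQ).1 (le_sup_right.trans hle)
    obtain ⟨L₀, hL₀, -, hleast, -⟩ := @exists_least_of_domAt C _ Q hQ (h Q hQ hd.symm)
    have hLmin := (Set.Finite.mem_toFinset _).1 (Finset.mem_filter.1 hL).1
    have e1 : L₁ = L₀ := le_antisymm
      (h₁.2 ⟨hL₀, bot_le⟩ (hleast L₁ h₁.1.1 (le_sup_left.trans hle)))
      (hleast L₁ h₁.1.1 (le_sup_left.trans hle))
    have e2 : L = L₀ := le_antisymm
      (hLmin.2 ⟨hL₀, bot_le⟩ (hleast L hLmin.1.1 hLQ)) (hleast L hLmin.1.1 hLQ)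
    exact (Finset.mem_filter.1 hL).2 (e2.trans e1.symm)
  obtain ⟨t, htM, ht⟩ := hdisj
  obtain ⟨a, ha, b, hb, rfl⟩ := Submodule.mem_sup.1 ht
  have hb2 : b ∈ L₂ := (Submodule.mem_finsetInf.1 hb) L₂
    (Finset.mem_filter.2 ⟨(Set.Finite.mem_toFinset _).2 h₂, hne.symm⟩)
  have hkill : ∃ s ∈ M, s * (a * b) = 0 := by
    by_contra hc
    push Not at hc
    obtain ⟨Q, hQ, hle, hd⟩ := Ideal.exists_le_prime_disjoint (Submodule.annihilator (Ideal.span {a * b})) M
      (Set.disjoint_left.2 fun x hx hxM => hc x hxM (by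
        have := Submodule.mem_annihilator.1 hx _ (Ideal.subset_span rfl)
        simpa using this))
    obtain ⟨L₀, hL₀, hL₀Q, hleast, hkills⟩ := @exists_least_of_domAt C _ Q hQ (h Q hQ hd.symm)
    haveI := hL₀
    obtain ⟨L, hL, hLL₀⟩ := Ideal.exists_minimalPrimes_le (J := L₀) (I := (⊥ : Ideal C)) bot_le
    have hab : a * b ∈ L := by
      by_cases hL1 : L = L₁
      · exact hL1 ▸ Ideal.mul_mem_right _ _ ha
      · exact Ideal.mul_mem_left _ _ ((Submodule.mem_finsetInf.1 hb) L
          (Finset.mem_filter.2 ⟨(Set.Finite.mem_toFinset _).2 hL, hL1⟩))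
    obtain ⟨s, hs, hs0⟩ := hkills _ (hLL₀ hab)
    refine hs (hle (Submodule.mem_annihilator.2 fun n hn => ?_))
    obtain ⟨c, rfl⟩ := Ideal.mem_span_singleton'.1 hn
    rw [smul_eq_mul, mul_left_comm, hs0, mul_zero]
  obtain ⟨s, hsM, hs⟩ := hkill
  refine ⟨s * a, s * (a + b), M.mul_mem hsM htM, ?_, Ideal.mul_mem_left _ _ ha, ?_⟩
  · rw [← mul_sub, add_sub_cancel_left, mul_mul_mul_comm, mul_assoc, hs, mul_zero]
  · rw [← mul_sub, add_sub_cancel_left]
    exact Ideal.mul_mem_left _ _ hb2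

variable {R A : Type u} [CommRing R] [CommRing A] [Algebra R A]

/-- Over a discrete valuation ring containing the base a splitting is defined near the point. -/
theorem exists_mul_mem_range_dvr [IsNoetherianRing R] [Algebra.FiniteType R A] [Module.Flat R A]
    (q : Ideal A) [q.IsPrime] (hq : GAt R q) (V : Type u) [CommRing V] [IsDomain V] [IsDiscreteValuationRing V]
    [Algebra R V] (K : Type u) [Field K] [Algebra V K] [IsFractionRing V K] [Algebra R K] [IsScalarTower R V K]
    (a : K ⊗[R] A) (t : A) (hat : a * ((1 : K) ⊗ₜ[R] t - a) = 0) :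
    ∃ s, s ∉ q ∧ ∃ b, Algebra.TensorProduct.map (IsScalarTower.toAlgHom R V K) (AlgHom.id R A) b =
      ((1 : K) ⊗ₜ[R] s) * a := by
  let i := IsScalarTower.toAlgHom R V K
  let ι : V ⊗[R] A →ₐ[R] K ⊗[R] A := Algebra.TensorProduct.map i (AlgHom.id R A)
  have hι : Function.Injective ι :=
    Module.Flat.rTensor_preserves_injective_linearMap (M := A) i.toLinearMap (IsFractionRing.injective V K)
  have hι1 : ∀ x : A, ι (1 ⊗ₜ x) = (1 : K) ⊗ₜ x := fun x => by
    simp only [ι, Algebra.TensorProduct.map_tmul, map_one]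
    rfl
  haveI : IsNoetherianRing (V ⊗[R] A) := Algebra.FiniteType.isNoetherianRing V _
  obtain ⟨π, hπ⟩ := IsDiscreteValuationRing.exists_irreducible V
  have hclear : ∀ ν : K ⊗[R] A, ∃ (c : V), c ≠ 0 ∧ ∃ z : V ⊗[R] A, ι z = (i c ⊗ₜ[R] (1 : A)) * ν := by
    intro ν
    induction ν using TensorProduct.induction_on with
    | zero => exact ⟨1, one_ne_zero, 0, by simp⟩
    | tmul x a =>
      obtain ⟨n, d, hd, rfl⟩ := IsFractionRing.div_surjective (A := V) x
      refine ⟨d, nonZeroDivisors.ne_zero hd, n ⊗ₜ a, ?_⟩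
      have hd0 : algebraMap V K d ≠ 0 := IsFractionRing.to_map_ne_zero_of_mem_nonZeroDivisors hd
      show algebraMap V K n ⊗ₜ[R] a = _
      rw [Algebra.TensorProduct.tmul_mul_tmul, one_mul]
      congr 1
      show algebraMap V K n = algebraMap V K d * (algebraMap V K n / algebraMap V K d)
      field_simp
    | add x y hx hy =>
      obtain ⟨c, hc, t, ht⟩ := hx
      obtain ⟨d, hd, u, hu⟩ := hy
      refine ⟨c * d, mul_ne_zero hc hd, (d ⊗ₜ 1) * t + (c ⊗ₜ 1) * u, ?_⟩
      rw [map_add, map_mul, map_mul, ht, hu]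
      simp only [ι, Algebra.TensorProduct.map_tmul, map_one, map_mul, mul_add, ← mul_assoc,
        Algebra.TensorProduct.tmul_mul_tmul, mul_one]
      rw [mul_comm (i d) (i c)]
  have hunit : ∀ c : V, c ≠ 0 → IsUnit (i c ⊗ₜ[R] (1 : A)) := fun c hc =>
    (isUnit_iff_ne_zero.2 ((map_ne_zero_iff _ (IsFractionRing.injective V K)).2 hc)).map
      (Algebra.TensorProduct.includeLeftRingHom (R := R) (A := K) (B := A))
  have hreg : ∀ c : V, c ≠ 0 → ∀ x : V ⊗[R] A, (c ⊗ₜ[R] (1 : A)) * x = 0 → x = 0 := by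
    intro c hc x hx
    refine hι ?_
    have h := congrArg ι hx
    rw [map_mul, map_zero] at h
    rw [map_zero]
    refine (IsUnit.mul_right_eq_zero ?_).1 h
    simpa [ι] using hunit c hc
  obtain ⟨c, hc, b, hb⟩ := hclear a
  have hzero : b * ((c ⊗ₜ[R] t) - b) = 0 := hι (by
    rw [map_mul, map_sub, hb, map_zero,
      show ι (c ⊗ₜ[R] t) = (i c ⊗ₜ[R] (1 : A)) * ((1 : K) ⊗ₜ[R] t) by
        simp [ι],
      ← mul_sub, mul_mul_mul_comm, hat, mul_zero])
  have hdom : ∀ Q : Ideal (V ⊗[R] A), Q.IsPrime →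
      Q.comap (Algebra.TensorProduct.includeRight : A →ₐ[R] V ⊗[R] A).toRingHom ≤ q → DomAt Q := by
    intro Q hQ hQq
    haveI := hQ
    let q₁ := Q.comap (Algebra.TensorProduct.includeRight : A →ₐ[R] V ⊗[R] A).toRingHom
    haveI : q₁.IsPrime := Ideal.comap_isPrime _ _
    have hq₁ : GAt R q₁ := gAt_of_le hQq hq
    by_cases hπQ : π ⊗ₜ[R] (1 : A) ∈ Q
    · refine domAt_of_regular Q _ hπQ (hreg π hπ.ne_zero) fun x y ⟨z, hz⟩ => ?_
      let k := IsLocalRing.ResidueField V
      let r : V ⊗[R] A →ₐ[R] k ⊗[R] A :=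
        Algebra.TensorProduct.map (IsScalarTower.toAlgHom R V k) (AlgHom.id R A)
      have hr : Function.Surjective r := by
        intro z
        induction z using TensorProduct.induction_on with
        | zero => exact ⟨0, map_zero _⟩
        | tmul x a =>
          obtain ⟨w, rfl⟩ := IsLocalRing.residue_surjective x
          exact ⟨w ⊗ₜ a, rfl⟩
        | add y z hy hz =>
          obtain ⟨y', rfl⟩ := hy
          obtain ⟨z', rfl⟩ := hz
          exact ⟨y' + z', map_add _ _ _⟩
      have hker : ∀ z, r z = 0 → π ⊗ₜ[R] (1 : A) ∣ z := by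
        intro z hz
        have h1 := Algebra.TensorProduct.rTensor_ker (R := R) (S := R) (C := A)
          (IsScalarTower.toAlgHom R V k) IsLocalRing.residue_surjective
        have hz' : z ∈ RingHom.ker r := hz
        rw [show RingHom.ker r = _ from h1] at hz'
        refine Ideal.mem_span_singleton.1 (Ideal.map_le_iff_le_comap.2 ?_ hz')
        intro w hw
        have hw' : w ∈ IsLocalRing.maximalIdeal V := by
          rw [← IsLocalRing.residue_eq_zero_iff]; exact hw
        rw [hπ.maximalIdeal_eq, Ideal.mem_span_singleton] at hw'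
        obtain ⟨v, rfl⟩ := hw'
        refine Ideal.mem_span_singleton.2 ⟨v ⊗ₜ 1, ?_⟩
        simp
      have hkerQ : RingHom.ker r.toRingHom ≤ Q := fun w hw => by
        obtain ⟨v, rfl⟩ := hker w hw
        exact Ideal.mul_mem_right _ _ hπQ
      haveI : (Q.map r.toRingHom).IsPrime := Ideal.map_isPrime_of_surjective hr hkerQ
      have hcomap : (Q.map r.toRingHom).comap r.toRingHom = Q := by
        rw [Ideal.comap_map_of_surjective r.toRingHom hr, ← RingHom.ker_eq_comap_bot, sup_eq_left.2 hkerQ]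
      have h0 : r x * r y = 0 := by
        rw [← map_mul, hz, map_mul]
        have : r (π ⊗ₜ[R] (1 : A)) = 0 := by
          show IsLocalRing.residue V π ⊗ₜ[R] (1 : A) = 0
          rw [(IsLocalRing.residue_eq_zero_iff π).2 (hπ.maximalIdeal_eq ▸ Ideal.mem_span_singleton_self π),
            zero_tmul]
        rw [this, zero_mul]
      obtain ⟨s, hs, hor⟩ := domAt_of_gAt hq₁ (Q.map r.toRingHom) (by
        ext w
        show r (1 ⊗ₜ w) ∈ Q.map r.toRingHom ↔ _
        exact (SetLike.ext_iff.1 hcomap _)) (r x) (r y) h0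
      obtain ⟨s, rfl⟩ := hr s
      exact ⟨s, fun hm => hs (Ideal.mem_map_of_mem _ hm), hor.imp (fun h1 => hker _ (by rw [map_mul, h1]))
        (fun h1 => hker _ (by rw [map_mul, h1]))⟩
    · have hV : ∀ v : V, v ≠ 0 → v ⊗ₜ[R] (1 : A) ∉ Q := by
        intro v hv hm
        obtain ⟨n, u, rfl⟩ := IsDiscreteValuationRing.eq_unit_mul_pow_irreducible hv hπ
        have e : ((u : V) * π ^ n) ⊗ₜ[R] (1 : A) = ((u : V) ⊗ₜ[R] (1 : A)) * (π ⊗ₜ[R] (1 : A)) ^ n := by
          simp [Algebra.TensorProduct.tmul_pow]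
        rw [e] at hm
        exact hπQ (hQ.mem_of_pow_mem n ((hQ.mem_or_mem hm).resolve_left fun h1 => hQ.ne_top
          (Ideal.eq_top_of_isUnit_mem _ h1 (u.isUnit.map
            (Algebra.TensorProduct.includeLeftRingHom (R := R) (A := V) (B := A))))))
      let F := Q.ResidueField
      let ψV : V →+* F := (algebraMap (V ⊗[R] A) F).comp
        (Algebra.TensorProduct.includeLeftRingHom (R := R) (A := V) (B := A))
      have hψV : Function.Injective ψV := (injective_iff_map_eq_zero _).2 fun v hv => by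
        by_contra h0
        exact hV v h0 (Ideal.algebraMap_residueField_eq_zero.1 hv)
      let j : K →ₐ[R] F :=
        { (IsFractionRing.lift hψV : K →+* F) with
          commutes' := fun r => by
            show IsFractionRing.lift hψV (algebraMap R K r) = _
            rw [IsScalarTower.algebraMap_apply R V K, IsFractionRing.lift_algebraMap,
              IsScalarTower.algebraMap_apply R (V ⊗[R] A) F]
            rfl }
      let γ : A →ₐ[R] F :=
        { (algebraMap (V ⊗[R] A) F).comp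
            (Algebra.TensorProduct.includeRight : A →ₐ[R] V ⊗[R] A).toRingHom with
          commutes' := fun r => by
            show algebraMap (V ⊗[R] A) F ((1 : V) ⊗ₜ[R] algebraMap R A r) = _
            rw [IsScalarTower.algebraMap_apply R (V ⊗[R] A) F, Algebra.TensorProduct.algebraMap_apply]
            congr 1
            rw [Algebra.algebraMap_eq_smul_one, ← TensorProduct.smul_tmul, ← Algebra.algebraMap_eq_smul_one] }
      let ψ : K ⊗[R] A →ₐ[R] F := Algebra.TensorProduct.lift j γ fun _ _ => .all _ _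
      have hψι : ∀ z, ψ (ι z) = algebraMap (V ⊗[R] A) F z := fun z => by
        induction z using TensorProduct.induction_on with
        | zero => simp
        | tmul v w =>
          show ψ (i v ⊗ₜ[R] w) = _
          rw [Algebra.TensorProduct.lift_tmul]
          show IsFractionRing.lift hψV (algebraMap V K v) * algebraMap (V ⊗[R] A) F ((1 : V) ⊗ₜ[R] w) = _
          rw [IsFractionRing.lift_algebraMap]
          show algebraMap (V ⊗[R] A) F (v ⊗ₜ[R] (1 : A)) * _ = _
          rw [← map_mul, Algebra.TensorProduct.tmul_mul_tmul, mul_one, one_mul]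
        | add y z hy hz => rw [map_add, map_add, map_add, hy, hz]
      haveI : (RingHom.ker ψ.toRingHom).IsPrime := RingHom.ker_isPrime _
      intro x y hxy
      obtain ⟨s, hs, hor⟩ := domAt_of_gAt hq₁ (RingHom.ker ψ.toRingHom) (by
        ext w
        show ψ ((1 : K) ⊗ₜ w) = 0 ↔ _
        rw [← hι1, hψι]
        exact Ideal.algebraMap_residueField_eq_zero) (ι x) (ι y) (by rw [← map_mul, hxy, map_zero])
      obtain ⟨d, hd, s', hs'⟩ := hclear s
      refine ⟨s', fun hm => hs ?_, hor.imp (fun h1 => hι ?_) (fun h1 => hι ?_)⟩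
      · have h1 := congrArg ψ hs'
        rw [hψι, map_mul, Ideal.algebraMap_residueField_eq_zero.2 hm] at h1
        exact (IsUnit.mul_right_eq_zero ((hunit d hd).map ψ)).1 h1.symm
      · rw [map_mul, hs', mul_assoc, h1, mul_zero, map_zero]
      · rw [map_mul, hs', mul_assoc, h1, mul_zero, map_zero]
  let J : Ideal (V ⊗[R] A) :=
    { carrier := {s | ∃ z, ι z = ι s * a}
      add_mem' := fun {x y} ⟨z, hz⟩ ⟨w, hw⟩ => ⟨z + w, by rw [map_add, map_add, hz, hw, add_mul]⟩
      zero_mem' := ⟨0, by rw [map_zero, zero_mul]⟩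
      smul_mem' := fun e x ⟨z, hz⟩ => ⟨e * z, by rw [smul_eq_mul, map_mul, map_mul, hz, mul_assoc]⟩ }
  by_contra hno
  push Not at hno
  let M : Submonoid (V ⊗[R] A) :=
    q.primeCompl.map (Algebra.TensorProduct.includeRight : A →ₐ[R] V ⊗[R] A)
  obtain ⟨Q, hQ, hJQ, hd⟩ := Ideal.exists_le_prime_disjoint J M (Set.disjoint_left.2 (by
    rintro _ ⟨z, hz⟩ ⟨s, hs, rfl⟩
    exact hno s hs z (hz.trans (by rw [← hι1 s]; rfl))))
  have hQq : Q.comap (Algebra.TensorProduct.includeRight : A →ₐ[R] V ⊗[R] A).toRingHom ≤ q := fun w hw => by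
    by_contra hwq
    exact Set.disjoint_left.1 hd hw ⟨w, hwq, rfl⟩
  obtain ⟨s, hs, h1 | h1⟩ := hdom Q hQ hQq _ _ hzero
  · refine hs (hJQ ⟨0, ?_⟩)
    have h2 := congrArg ι h1
    rw [map_mul, hb, map_zero, mul_left_comm] at h2
    rw [map_zero, (IsUnit.mul_right_eq_zero (hunit c hc)).1 h2]
  · refine hs (hJQ ⟨((1 : V) ⊗ₜ t) * s, ?_⟩)
    have h2 := congrArg ι h1
    rw [map_mul, map_sub, hb, map_zero, show ι (c ⊗ₜ[R] t) = (i c ⊗ₜ[R] (1 : A)) * ((1 : K) ⊗ₜ[R] t) by simp [ι],
      ← mul_sub, mul_left_comm] at h2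
    have h3 := (IsUnit.mul_right_eq_zero (hunit c hc)).1 h2
    rw [mul_sub, sub_eq_zero] at h3
    rw [map_mul, hι1, mul_comm, h3]

/-- Membership in the base change of an intersection. -/
theorem mem_range_inf [Module.Flat R A] {K : Type u} [AddCommGroup K] [Module R K] (N V : Submodule R K)
    (x : K ⊗[R] A) (hN : x ∈ LinearMap.range (N.subtype.rTensor A)) (hV : x ∈ LinearMap.range (V.subtype.rTensor A)) :
    x ∈ LinearMap.range ((N ⊓ V).subtype.rTensor A) := by
  obtain ⟨y, rfl⟩ := hN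
  obtain ⟨v, hv⟩ := hV
  let g : N →ₗ[R] K ⧸ V := V.mkQ.comp N.subtype
  let f : ↥(N ⊓ V) →ₗ[R] N := Submodule.inclusion inf_le_left
  have hfg : Function.Exact f g := fun n => by
    constructor
    · intro h
      exact ⟨⟨n.1, n.2, (Submodule.Quotient.mk_eq_zero V).1 h⟩, rfl⟩
    · rintro ⟨m, rfl⟩
      exact (Submodule.Quotient.mk_eq_zero V).2 m.2.2
  have h0 : g.rTensor A y = 0 := by
    show (V.mkQ.comp N.subtype).rTensor A y = 0
    rw [LinearMap.rTensor_comp, LinearMap.comp_apply, ← hv, ← LinearMap.comp_apply, ← LinearMap.rTensor_comp,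
      show V.mkQ.comp V.subtype = 0 from LinearMap.ext fun z => (Submodule.Quotient.mk_eq_zero V).2 z.2,
      LinearMap.rTensor_zero, LinearMap.zero_apply]
  obtain ⟨z, rfl⟩ := (Module.Flat.rTensor_exact A hfg y).1 h0
  exact ⟨z, by rw [← LinearMap.comp_apply, ← LinearMap.rTensor_comp]; rfl⟩

theorem mul_mem_range {K : Type u} [CommRing K] [Algebra R K] (N : Submodule R K) (s : A) (x : K ⊗[R] A)
    (hx : x ∈ LinearMap.range (N.subtype.rTensor A)) :
    ((1 : K) ⊗ₜ[R] s) * x ∈ LinearMap.range (N.subtype.rTensor A) := by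
  obtain ⟨y, rfl⟩ := hx
  refine ⟨(LinearMap.mulLeft R s).lTensor N y, ?_⟩
  induction y using TensorProduct.induction_on with
  | zero => simp
  | tmul n b => simp
  | add y z hy hz => rw [map_add, map_add, hy, hz, map_add, mul_add]

/-- A splitting is defined over the normalization of the base, near the point. -/
theorem exists_mul_mem_range_normalization [IsDomain R] [IsNoetherianRing R] [IsLocalRing R]
    [Algebra.FiniteType R A] [Module.Flat R A] (q : Ideal A) [q.IsPrime] (hq : GAt R q)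
    (K : Type u) [Field K] [Algebra R K] [IsFractionRing R K]
    (a : K ⊗[R] A) (t : A) (hat : a * ((1 : K) ⊗ₜ[R] t - a) = 0) :
    ∃ s, s ∉ q ∧ ((1 : K) ⊗ₜ[R] s) * a ∈
      LinearMap.range ((Subalgebra.toSubmodule (integralClosure R K)).subtype.rTensor A) := by
  classical
  obtain ⟨C, -, hV, hint, hfin⟩ := H3CAlg.Mori.mori_local R K
  obtain ⟨⟨a₀, d, hd⟩, ha₀⟩ := IsLocalizedModule.surj (nonZeroDivisors R) (TensorProduct.mk R K A 1) a
  let k := algebraMap R K d
  have hk : k ≠ 0 := IsFractionRing.to_map_ne_zero_of_mem_nonZeroDivisors hd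
  let N₀ : Submodule R K := (Subalgebra.toSubmodule (integralClosure R K)).comap (LinearMap.mulLeft R k)
  have haN : a ∈ LinearMap.range (N₀.subtype.rTensor A) := by
    have hmem : k⁻¹ ∈ N₀ := by
      show k * k⁻¹ ∈ integralClosure R K
      rw [mul_inv_cancel₀ hk]
      exact one_mem _
    refine ⟨(⟨k⁻¹, hmem⟩ : N₀) ⊗ₜ[R] a₀, ?_⟩
    have h1 : (k ⊗ₜ[R] (1 : A)) * a = (1 : K) ⊗ₜ[R] a₀ := by
      refine Eq.trans ?_ ha₀
      show _ = d • a
      rw [Algebra.smul_def]
      rfl
    calc N₀.subtype.rTensor A ((⟨k⁻¹, hmem⟩ : N₀) ⊗ₜ[R] a₀)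
        = (k⁻¹ ⊗ₜ[R] (1 : A)) * ((1 : K) ⊗ₜ[R] a₀) := by simp
      _ = a := by
        rw [← h1, ← mul_assoc, Algebra.TensorProduct.tmul_mul_tmul, inv_mul_cancel₀ hk, one_mul,
          ← Algebra.TensorProduct.one_def, one_mul]
  let Pp : Ideal C → K → Prop := fun p x => ∃ s : C, s ∉ p ∧ IsIntegral C ((s : K) * x)
  have hone : ∀ p : Ideal C, p.IsPrime → ∀ x, x ∈ integralClosure R K → Pp p x := fun p hp x hx =>
    ⟨1, fun h => hp.ne_top ((Ideal.eq_top_iff_one p).2 h), by
      rw [OneMemClass.coe_one, one_mul]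
      exact IsIntegral.tower_top (A := C) (show IsIntegral R x from hx)⟩
  let F := (hfin k⁻¹).toFinset
  have hFp : ∀ p : Ideal C, p ∈ F → p.IsPrime ∧ p.height = 1 := fun p hp =>
    ⟨((Set.Finite.mem_toFinset _).1 hp).1, ((Set.Finite.mem_toFinset _).1 hp).2.1⟩
  have key : ∀ G : Finset (Ideal C), G ⊆ F → ∃ s, s ∉ q ∧ ∃ N : Submodule R K, N ≤ N₀ ∧
      (∀ p ∈ G, ∀ x ∈ N, Pp p x) ∧ ((1 : K) ⊗ₜ[R] s) * a ∈ LinearMap.range (N.subtype.rTensor A) := by
    intro G
    induction G using Finset.induction_on with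
    | empty =>
      exact fun _ => ⟨1, fun h => (‹q.IsPrime›).ne_top ((Ideal.eq_top_iff_one q).2 h), N₀, le_rfl, by simp,
        mul_mem_range N₀ 1 a haN⟩
    | insert p G hp ih =>
      intro hsub
      obtain ⟨s₁, hs₁, N, hN, hNG, hmem⟩ := ih fun x hx => hsub (Finset.mem_insert_of_mem hx)
      obtain ⟨hpp, hph⟩ := hFp p (hsub (Finset.mem_insert_self p G))
      haveI := hpp
      obtain ⟨W, hW, hWiff⟩ := hV p hph
      haveI := hW
      have hRW : ∀ r, algebraMap R K r ∈ W := fun r =>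
        (hWiff _).2 (hone p hpp _ ((integralClosure R K).algebraMap_mem r))
      letI : Algebra R W := ((algebraMap R K).codRestrict W.toSubring hRW).toAlgebra
      haveI : IsScalarTower R W K := IsScalarTower.of_algebraMap_eq fun _ => rfl
      obtain ⟨s₂, hs₂, b, hb⟩ := exists_mul_mem_range_dvr q hq W K a t hat
      let Ws : Submodule R K := LinearMap.range (IsScalarTower.toAlgHom R W K).toLinearMap
      have hbW : ((1 : K) ⊗ₜ[R] s₂) * a ∈ LinearMap.range (Ws.subtype.rTensor A) := by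
        refine ⟨(IsScalarTower.toAlgHom R W K).toLinearMap.rangeRestrict.rTensor A b, ?_⟩
        rw [← LinearMap.comp_apply, ← LinearMap.rTensor_comp, ← hb]
        rfl
      refine ⟨s₂ * s₁, q.primeCompl.mul_mem hs₂ hs₁, N ⊓ Ws, inf_le_left.trans hN, fun p' hp' x hx => ?_, ?_⟩
      · rcases Finset.mem_insert.1 hp' with rfl | hp'
        · obtain ⟨w, rfl⟩ := hx.2
          exact (hWiff _).1 w.2
        · exact hNG p' hp' x hx.1
      · have e : ((1 : K) ⊗ₜ[R] (s₂ * s₁)) * a = ((1 : K) ⊗ₜ[R] s₂) * (((1 : K) ⊗ₜ[R] s₁) * a) := by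
          rw [← mul_assoc, Algebra.TensorProduct.tmul_mul_tmul, one_mul]
        refine mem_range_inf N Ws _ ?_ ?_
        · rw [e]; exact mul_mem_range N s₂ _ hmem
        · rw [e, mul_left_comm]; exact mul_mem_range Ws s₁ _ hbW
  obtain ⟨s, hs, N, hN, hNF, hmem⟩ := key F le_rfl
  refine ⟨s, hs, ?_⟩
  have hle : N ≤ Subalgebra.toSubmodule (integralClosure R K) := fun x hx => by
    refine (hint x).2 fun p _ hph => ?_
    by_cases hpF : p ∈ F
    · exact hNF p hpF x hx
    · obtain ⟨W, -, hWiff⟩ := hV p hph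
      have h1 : k⁻¹ ∈ W := (hWiff _).2 (by
        by_contra hn
        exact hpF ((Set.Finite.mem_toFinset _).2 ⟨inferInstance, hph, hn⟩))
      have h2 : k * x ∈ W := (hWiff _).2 (hone p inferInstance _ (hN hx))
      have h3 := W.mul_mem _ _ h1 h2
      rw [inv_mul_cancel_left₀ hk] at h3
      exact (hWiff _).1 h3
  obtain ⟨y, hy⟩ := hmem
  exact ⟨(Submodule.inclusion hle).rTensor A y, by rw [← LinearMap.comp_apply, ← LinearMap.rTensor_comp, ← hy]; rfl⟩

/-- Over a geometrically unibranch domain there is only one minimal prime below a point with geometrically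
pointwise integral flat fibre. -/
theorem exists_least_of_unibranch [IsDomain R] [IsNoetherianRing R] [IsLocalRing R]
    [Algebra.FiniteType R A] [Module.Flat R A] (q : Ideal A) [q.IsPrime]
    (hqp : q.comap (algebraMap R A) = IsLocalRing.maximalIdeal R) (hq : GAt R q)
    (K : Type u) [Field K] [Algebra R K] [IsFractionRing R K]
    (huni : ∀ (Ω : Type u) [Field Ω] (χ₁ χ₂ : integralClosure R K →+* Ω),
      χ₁.comp (algebraMap R (integralClosure R K)) = χ₂.comp (algebraMap R (integralClosure R K)) →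
      RingHom.ker (χ₁.comp (algebraMap R (integralClosure R K))) = IsLocalRing.maximalIdeal R → χ₁ = χ₂) :
    ∃ P : Ideal A, P.IsPrime ∧ P ≤ q ∧ ∀ P' : Ideal A, P'.IsPrime → P' ≤ q → P ≤ P' := by
  haveI : IsNoetherianRing A := Algebra.FiniteType.isNoetherianRing R A
  haveI : IsNoetherianRing (K ⊗[R] A) := Algebra.FiniteType.isNoetherianRing K _
  suffices key : ∀ P₁ ∈ minimalPrimes A, P₁ ≤ q → ∀ P₂ ∈ minimalPrimes A, P₂ ≤ q → P₁ = P₂ by
    obtain ⟨P, hP, hPq⟩ := Ideal.exists_minimalPrimes_le (I := (⊥ : Ideal A)) (J := q) bot_le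
    refine ⟨P, hP.1.1, hPq, fun P' hP' hP'q => ?_⟩
    haveI := hP'
    obtain ⟨P₂, hP₂, hle⟩ := Ideal.exists_minimalPrimes_le (I := (⊥ : Ideal A)) (J := P') bot_le
    rwa [key P hP hPq P₂ hP₂ (hle.trans hP'q)]
  intro P₁ hP₁ hP₁q P₂ hP₂ hP₂q
  by_contra hne
  let inclA : A →+* K ⊗[R] A := (Algebra.TensorProduct.includeRight : A →ₐ[R] K ⊗[R] A).toRingHom
  have hlift : ∀ P ∈ minimalPrimes A, ∃ L ∈ minimalPrimes (K ⊗[R] A), L.comap inclA = P := by
    intro P hP
    haveI := hP.1.1
    let F := P.ResidueField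
    have hinj : Function.Injective (algebraMap R F) := (injective_iff_map_eq_zero _).2 fun r hr => by
      rw [IsScalarTower.algebraMap_apply R A F, Ideal.algebraMap_residueField_eq_zero] at hr
      by_contra h0
      have hreg : algebraMap R A r ∈ nonZeroDivisors A := by
        refine mem_nonZeroDivisors_iff_right.2 fun x hx => ?_
        exact (Module.Flat.isSMulRegular_of_isRegular (R := R) (M := A) (IsRegular.of_ne_zero h0)).right_eq_zero_of_smul
          (by rw [Algebra.smul_def, mul_comm]; exact hx)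
      exact Set.disjoint_left.1 (Ideal.disjoint_nonZeroDivisors_of_mem_minimalPrimes hP) hr hreg
    let j : K →ₐ[R] F :=
      { (IsFractionRing.lift hinj : K →+* F) with commutes' := fun r => IsFractionRing.lift_algebraMap hinj r }
    let ψ : K ⊗[R] A →ₐ[R] F :=
      Algebra.TensorProduct.lift j (IsScalarTower.toAlgHom R A F) fun _ _ => .all _ _
    haveI : (RingHom.ker ψ.toRingHom).IsPrime := RingHom.ker_isPrime _
    obtain ⟨L, hL, hLle⟩ := Ideal.exists_minimalPrimes_le (I := (⊥ : Ideal (K ⊗[R] A)))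
      (J := RingHom.ker ψ.toRingHom) bot_le
    haveI := hL.1.1
    refine ⟨L, hL, ?_⟩
    have hle : L.comap inclA ≤ P := fun x hx => by
      have h1 : ψ ((1 : K) ⊗ₜ x) = 0 := hLle hx
      rw [Algebra.TensorProduct.lift_tmul, map_one, one_mul] at h1
      exact Ideal.algebraMap_residueField_eq_zero.1 h1
    exact le_antisymm hle (hP.2 ⟨Ideal.comap_isPrime _ _, bot_le⟩ hle)
  obtain ⟨L₁, hL₁, hL₁P⟩ := hlift P₁ hP₁
  obtain ⟨L₂, hL₂, hL₂P⟩ := hlift P₂ hP₂
  obtain ⟨a, t', ⟨t, ht, rfl⟩, hat, ha, hta⟩ := exists_split (q.primeCompl.map inclA) (fun Q hQ hd => by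
    have hle : Q.comap inclA ≤ q := fun x hx => by
      by_contra hxq
      exact Set.disjoint_left.1 hd ⟨x, hxq, rfl⟩ hx
    haveI : (Q.comap inclA).IsPrime := Ideal.comap_isPrime _ _
    exact domAt_of_gAt (gAt_of_le hle hq) Q rfl) hL₁ hL₂ (fun h => hne (by rw [← hL₁P, ← hL₂P, h]))
  change a * ((1 : K) ⊗ₜ[R] t - a) = 0 at hat
  change (1 : K) ⊗ₜ[R] t - a ∈ L₂ at hta
  obtain ⟨s, hs, a₀, ha'⟩ := exists_mul_mem_range_normalization q hq K a t hat
  let S := integralClosure R K
  let a' : S ⊗[R] A := a₀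
  let ι : S ⊗[R] A →ₐ[R] K ⊗[R] A := Algebra.TensorProduct.map S.val (AlgHom.id R A)
  have hι : Function.Injective ι :=
    Module.Flat.rTensor_preserves_injective_linearMap (M := A) S.val.toLinearMap Subtype.val_injective
  have hιa : ι a' = ((1 : K) ⊗ₜ[R] s) * a := ha'
  let b : S ⊗[R] A := (1 : S) ⊗ₜ[R] (s * t)
  have hιb : ι b - ι a' = ((1 : K) ⊗ₜ[R] s) * ((1 : K) ⊗ₜ[R] t - a) := by
    rw [hιa, mul_sub, Algebra.TensorProduct.tmul_mul_tmul, one_mul]
    rfl
  have hprod : a' * (b - a') = 0 := hι (by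
    rw [map_mul, map_sub, hιb, hιa, mul_mul_mul_comm, hat, mul_zero, map_zero])
  let g : A →+* S ⊗[R] A := (Algebra.TensorProduct.includeRight : A →ₐ[R] S ⊗[R] A).toRingHom
  have hint : g.IsIntegral := by
    intro x
    induction x using TensorProduct.induction_on with
    | zero => exact g.isIntegralElem_zero
    | add y z hy hz => exact hy.add g hz
    | tmul x w =>
      have hx : IsIntegral R x := (isIntegral_algHom_iff S.val Subtype.val_injective).1 x.2
      have h1 : g.IsIntegralElem (x ⊗ₜ[R] (1 : A)) := by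
        obtain ⟨P, hP, hP'⟩ := hx.map (Algebra.TensorProduct.includeLeft : S →ₐ[R] S ⊗[R] A)
        refine ⟨P.map (algebraMap R A), hP.map _, ?_⟩
        rw [Polynomial.eval₂_map]
        convert hP' using 2
        swap; · rfl
        exact RingHom.ext fun r => (Algebra.TensorProduct.includeRight : A →ₐ[R] S ⊗[R] A).commutes r
      have h2 : x ⊗ₜ[R] w = (x ⊗ₜ[R] (1 : A)) * g w := by
        show _ = _ * ((1 : S) ⊗ₜ[R] w)
        rw [Algebra.TensorProduct.tmul_mul_tmul, mul_one, one_mul]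
      rw [h2]
      exact h1.mul g g.isIntegralElem_map
  have huniq : ∀ Q Q' : Ideal (S ⊗[R] A), Q.IsPrime → Q'.IsPrime → Q.comap g = q → Q'.comap g = q → Q = Q' := by
    intro Q Q' hQ hQ' hQq hQ'q
    let φ : q.ResidueField →+* Q.ResidueField := Ideal.ResidueField.map q Q g hQq.symm
    let ψ : q.ResidueField →+* Q'.ResidueField := Ideal.ResidueField.map q Q' g hQ'q.symm
    obtain ⟨M, _, α, β, hab⟩ := H8Props.GeometricDescent.exists_compositum φ ψ
    let χ₁ : S ⊗[R] A →+* M := α.comp (algebraMap _ Q.ResidueField)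
    let χ₂ : S ⊗[R] A →+* M := β.comp (algebraMap _ Q'.ResidueField)
    have hA : ∀ w : A, χ₁ (g w) = χ₂ (g w) := fun w => by
      have h1 := RingHom.congr_fun hab (algebraMap A q.ResidueField w)
      rw [RingHom.comp_apply, RingHom.comp_apply] at h1
      convert h1 using 1
      · exact congrArg α (Ideal.ResidueField.map_algebraMap q Q g hQq.symm w).symm
      · exact congrArg β (Ideal.ResidueField.map_algebraMap q Q' g hQ'q.symm w).symm
    let iS : S →+* S ⊗[R] A := Algebra.TensorProduct.includeLeftRingHom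
    have hR : ∀ r, iS (algebraMap R S r) = g (algebraMap R A r) := fun r =>
      ((Algebra.TensorProduct.includeRight : A →ₐ[R] S ⊗[R] A).commutes r).symm
    have hker : RingHom.ker χ₁ = Q := by
      rw [RingHom.ker_comp_of_injective _ α.injective, Ideal.ker_algebraMap_residueField]
    have hSeq : χ₁.comp iS = χ₂.comp iS := by
      refine huni M _ _ (RingHom.ext fun r => ?_) ?_
      · show χ₁ (iS (algebraMap R S r)) = χ₂ (iS (algebraMap R S r))
        rw [hR, hA]
      · ext r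
        rw [← hqp, RingHom.mem_ker, Ideal.mem_comap, ← hQq, Ideal.mem_comap, ← hker, RingHom.mem_ker, ← hR]
        rfl
    have heq : χ₁ = χ₂ := RingHom.ext fun z => by
      induction z using TensorProduct.induction_on with
      | zero => rw [map_zero, map_zero]
      | add y z hy hz => rw [map_add, map_add, hy, hz]
      | tmul x w =>
        have h2 : x ⊗ₜ[R] w = iS x * g w := by
          show _ = (x ⊗ₜ[R] (1 : A)) * ((1 : S) ⊗ₜ[R] w)
          rw [Algebra.TensorProduct.tmul_mul_tmul, mul_one, one_mul]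
        rw [h2, map_mul, map_mul, hA]
        exact congrArg (· * _) (RingHom.congr_fun hSeq x)
    rw [← hker, heq, RingHom.ker_comp_of_injective _ β.injective, Ideal.ker_algebraMap_residueField]
  have habove : ∀ (L : Ideal (K ⊗[R] A)) (z : S ⊗[R] A), L.IsPrime → L.comap inclA ≤ q → ι z ∈ L →
      ∃ Q : Ideal (S ⊗[R] A), Q.IsPrime ∧ Q.comap g = q ∧ z ∈ Q := by
    intro L z hL hLq hz
    letI := g.toAlgebra
    haveI : Algebra.IsIntegral A (S ⊗[R] A) := ⟨hint⟩
    haveI : (L.comap ι.toRingHom).IsPrime := Ideal.comap_isPrime _ _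
    obtain ⟨Q, hQle, hQp, hQq⟩ := Ideal.exists_ideal_over_prime_of_isIntegral (S := S ⊗[R] A) q
      (L.comap ι.toRingHom) (by
        intro w hw
        refine hLq ?_
        have h1 : ι ((1 : S) ⊗ₜ[R] w) ∈ L := hw
        simpa [ι, inclA] using h1)
    exact ⟨Q, hQp, hQq, hQle hz⟩
  obtain ⟨Q₁, hQ₁, hQ₁q, hQ₁a⟩ := habove L₁ a' hL₁.1.1 (hL₁P.trans_le hP₁q)
    (hιa ▸ Ideal.mul_mem_left _ _ ha)
  obtain ⟨Q₂, hQ₂, hQ₂q, hQ₂a⟩ := habove L₂ (b - a') hL₂.1.1 (hL₂P.trans_le hP₂q)
    (by rw [map_sub, hιb]; exact Ideal.mul_mem_left _ _ hta)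
  rw [← huniq Q₁ Q₂ hQ₁ hQ₂ hQ₁q hQ₂q] at hQ₂a
  have hb : b ∈ Q₁ := by simpa using add_mem hQ₁a hQ₂a
  have hst : s * t ∈ q := by rw [← hQ₁q]; exact hb
  rcases (‹q.IsPrime›).mem_or_mem hst with h | h
  · exact hs h
  · exact ht h

end Groth.Agent.H06GeomInt
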