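import Groth.Agent.H06GeomInt.Unique
import Groth.Agent.H06GeomInt.Components
import Groth.Agent.H06GeomInt.Loci
import Groth.Agent.H06EGA14.UnibranchLifting
import Groth.Agent.H06EGA14.UnivOpen
import Groth.Agent.H06FlatVal.MaximalImage
import Groth.Agent.S2561
import Groth.Agent.S3408

/-!
A point with geometrically pointwise integral fibre over a geometrically unibranch point lies on only one
irreducible component (EGA IV 15.3).
-/

set_option autoImplicit false
set_option linter.style.haveILetI false
set_option backward.isDefEq.respectTransparency false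

open CategoryTheory CategoryTheory.Limits AlgebraicGeometry TopologicalSpace Topology TensorProduct

universe u

namespace Groth.Agent.H06GeomInt

variable {X Y : Scheme.{u}}

theorem mem_locus_pullback (f : X ⟶ Y) {Y' : Scheme.{u}} (g : Y' ⟶ Y) (x' : ↥(pullback f g))
    (h : pullback.fst f g x' ∈ Locus f) : x' ∈ Locus (pullback.snd f g) := by
  rw [mem_locus_iff] at h ⊢
  intro K _ a z hz
  let e := pullbackLeftPullbackSndIso f g a
  refine (isDomain_of_stalkMap e.hom z).1 (h K (a ≫ g) (e.hom z) ?_)
  rw [← Scheme.Hom.comp_apply, pullbackLeftPullbackSndIso_hom_fst, Scheme.Hom.comp_apply]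
  exact congrArg (pullback.fst f g) hz

theorem isGeomReducedAt_of_mem_locus (f : X ⟶ Y) {x : X} (h : x ∈ Locus f) :
    FBase.IsGeomReducedAt (f.fiberToSpecResidueField (f.base x)) (f.asFiber x) := fun K _ _ z hz => by
  haveI := h K z hz
  infer_instance

/-- The locus on an affine open over an affine base. -/
theorem gAt_of_mem_locus {S A : CommRingCat.{u}} (f : X ⟶ Spec S) (j : Spec A ⟶ X) [IsOpenImmersion j]
    [Algebra S A] (hj : Spec.map (CommRingCat.ofHom (algebraMap S A)) = j ≫ f) (q : Spec A)
    (h : j q ∈ Locus f) : GAt S (q : PrimeSpectrum A).asIdeal := by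
  rw [mem_locus_iff] at h
  refine gAt_of_forall_domAt fun K _ _ Q hQ hQq => ?_
  let a := Spec.map (CommRingCat.ofHom (algebraMap S K))
  let φ := Spec.map (CommRingCat.ofHom (algebraMap S A))
  let m : pullback φ a ⟶ pullback f a := pullback.map _ _ _ _ j (𝟙 _) (𝟙 _)
    (by rw [Category.comp_id]; exact hj) (by simp [a])
  let i := (pullbackSpecIso S K A).symm ≪≫ pullbackSymmetry a φ
  let k : Spec (CommRingCat.of (K ⊗[S] A)) ⟶ pullback f a := i.hom ≫ m
  let Q' : PrimeSpectrum (K ⊗[S] A) := ⟨Q, hQ⟩
  have hk : pullback.fst f a (k Q') = j q := by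
    rw [← Scheme.Hom.comp_apply, Category.assoc, pullback.lift_fst, Iso.trans_hom, Iso.symm_hom,
      Category.assoc, pullbackSymmetry_hom_comp_fst_assoc, pullbackSpecIso_inv_snd_assoc]
    exact congrArg j (PrimeSpectrum.ext hQq)
  letI : Algebra (CommRingCat.of (K ⊗[S] A)) ((Spec (CommRingCat.of (K ⊗[S] A))).presheaf.stalk Q') :=
    StructureSheaf.stalkAlgebra _ Q'
  haveI : IsLocalization.AtPrime ((Spec (CommRingCat.of (K ⊗[S] A))).presheaf.stalk Q') Q'.asIdeal :=
    StructureSheaf.IsLocalization.to_stalk (CommRingCat.of (K ⊗[S] A)) Q'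
  exact (domAt_iff_isDomain Q'.asIdeal _).2 ((isDomain_of_stalkMap k Q').1 (h K a (k Q') hk))

/-- Over the spectrum of a geometrically unibranch domain there is a least generization of a point of the
closed fibre with geometrically pointwise integral flat germ. -/
theorem exists_least_generization_local {S : CommRingCat.{u}} [IsDomain S] [IsNoetherianRing S] [IsLocalRing S]
    (huni : ∀ (Ω : Type u) [Field Ω] (χ₁ χ₂ : integralClosure S (FractionRing S) →+* Ω),
      χ₁.comp (algebraMap S (integralClosure S (FractionRing S))) =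
        χ₂.comp (algebraMap S (integralClosure S (FractionRing S))) →
      RingHom.ker (χ₁.comp (algebraMap S (integralClosure S (FractionRing S)))) = IsLocalRing.maximalIdeal S →
      χ₁ = χ₂)
    {Z : Scheme.{u}} (f : Z ⟶ Spec S) [LocallyOfFinitePresentation f] (x : Z)
    (hx : f x = IsLocalRing.closedPoint S) (hflat : (f.stalkMap x).hom.Flat) (hloc : x ∈ Locus f) :
    ∃ w, w ⤳ x ∧ ∀ z, z ⤳ x → w ⤳ z := by
  obtain ⟨W, hW, hxW, hWle⟩ := exists_isAffineOpen_mem_and_subset
    (U := (⟨_, H8Props.FlatLocus.isOpen_setOf_flat_stalkMap f⟩ : Z.Opens)) (x := x) hflat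
  let φ := Spec.preimage (hW.fromSpec ≫ f)
  letI : Algebra S Γ(Z, W) := φ.hom.toAlgebra
  have hφ : Spec.map (CommRingCat.ofHom (algebraMap S Γ(Z, W))) = hW.fromSpec ≫ f := Spec.map_preimage _
  haveI : Algebra.FiniteType S Γ(Z, W) := RingHom.finiteType_algebraMap.mp
    ((HasRingHomProperty.Spec_iff (P := @LocallyOfFiniteType) (φ := CommRingCat.ofHom (algebraMap S Γ(Z, W)))).mp
      (hφ ▸ inferInstance))
  haveI : Flat (hW.fromSpec ≫ f) := (Flat.iff_flat_stalkMap _).mpr fun w => by
    rw [Scheme.Hom.stalkMap_comp]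
    simp only [CommRingCat.hom_comp]
    exact RingHom.Flat.comp (hWle (hW.range_fromSpec.le ⟨w, rfl⟩))
      (RingHom.Flat.of_bijective (ConcreteCategory.bijective_of_isIso (hW.fromSpec.stalkMap w)))
  haveI : Module.Flat S Γ(Z, W) := RingHom.flat_algebraMap_iff.mp
    ((HasRingHomProperty.Spec_iff (P := @Flat) (φ := CommRingCat.ofHom (algebraMap S Γ(Z, W)))).mp
      (hφ ▸ inferInstance))
  obtain ⟨q, rfl⟩ := hW.range_fromSpec.ge hxW
  let q' : PrimeSpectrum Γ(Z, W) := q
  haveI := q'.isPrime
  have hqp : q'.asIdeal.comap (algebraMap S Γ(Z, W)) = IsLocalRing.maximalIdeal S := by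
    have h1 : PrimeSpectrum.comap (algebraMap S Γ(Z, W)) q' = IsLocalRing.closedPoint S := by
      show Spec.map (CommRingCat.ofHom (algebraMap S Γ(Z, W))) q = _
      rw [hφ, Scheme.Hom.comp_apply]
      exact hx
    exact congrArg PrimeSpectrum.asIdeal h1
  obtain ⟨P, hP, hPq, hleast⟩ := exists_least_of_unibranch q'.asIdeal hqp
    (gAt_of_mem_locus f hW.fromSpec hφ q hloc) (FractionRing S) huni
  let P' : PrimeSpectrum Γ(Z, W) := ⟨P, hP⟩
  refine ⟨hW.fromSpec P', ((PrimeSpectrum.le_iff_specializes P' q').1 hPq).map hW.fromSpec.continuous,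
    fun z hz => ?_⟩
  obtain ⟨z', rfl⟩ := hW.range_fromSpec.ge (hz.mem_open W.2 hxW)
  exact ((PrimeSpectrum.le_iff_specializes P' z').1
    (hleast _ (z' : PrimeSpectrum Γ(Z, W)).isPrime ((PrimeSpectrum.le_iff_specializes z' q').2
      (hW.fromSpec.isEmbedding.specializes_iff.1 hz)))).map hW.fromSpec.continuous

/-- A point with geometrically pointwise integral fibre over a geometrically unibranch point has a least
generization. -/
theorem exists_least_generization [IsLocallyNoetherian Y] (f : X ⟶ Y) [LocallyOfFiniteType f] (x : X)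
    (hopen : ∀ z : ↥(f.fiber (f.base x)), f.asFiber x ∈ closure {z} →
      (∀ z' : ↥(f.fiber (f.base x)), z ∈ closure {z'} → z' = z) →
      EGA43.IsUnivOpenAt f ((f.fiberι (f.base x)).base z))
    (hint : x ∈ Locus f) (hY : CAlg2.IsGeomUnibranch (Y.presheaf.stalk (f.base x))) :
    ∃ w, w ⤳ x ∧ ∀ z, z ⤳ x → w ⤳ z := by
  let O := Y.presheaf.stalk (f x)
  haveI : IsDomain (CAlg2.red O) := hY.1.1
  haveI : IsLocalRing (CAlg2.red O) := IsLocalRing.of_surjective' _ Ideal.Quotient.mk_surjective
  let S : CommRingCat.{u} := CommRingCat.of (CAlg2.red O)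
  haveI : IsNoetherianRing S := inferInstanceAs (IsNoetherianRing (CAlg2.red O))
  haveI : IsDomain S := inferInstanceAs (IsDomain (CAlg2.red O))
  haveI : IsLocalRing S := inferInstanceAs (IsLocalRing (CAlg2.red O))
  haveI : IsLocalHom (Ideal.Quotient.mk (nilradical O)) :=
    IsLocalHom.of_surjective _ Ideal.Quotient.mk_surjective
  let π : Spec S ⟶ Spec (Y.presheaf.stalk (f x)) := Spec.map (CommRingCat.ofHom (Ideal.Quotient.mk (nilradical O)))
  haveI : IsClosedImmersion π := IsClosedImmersion.spec_of_surjective _ Ideal.Quotient.mk_surjective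
  let k : Spec S ⟶ Y := π ≫ Y.fromSpecStalk (f x)
  haveI : IsPreimmersion k := inferInstance
  have hk : k (IsLocalRing.closedPoint S) = f x := by
    have : π (IsLocalRing.closedPoint S) = IsLocalRing.closedPoint O :=
      IsLocalRing.comap_closedPoint (Ideal.Quotient.mk (nilradical O))
    rw [Scheme.Hom.comp_apply, this, Scheme.fromSpecStalk_closedPoint]
  have hrange : ∀ y : Y, y ⤳ f x → y ∈ Set.range k := by
    intro y hy
    obtain ⟨p, rfl⟩ := (Scheme.range_fromSpecStalk (X := Y) (x := f x)).ge hy
    obtain ⟨p', hp'⟩ : p ∈ Set.range π := by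
      show p ∈ Set.range (PrimeSpectrum.comap (Ideal.Quotient.mk (nilradical O)))
      rw [range_comap_of_surjective _ _ Ideal.Quotient.mk_surjective, Ideal.mk_ker]
      exact nilradical_le_prime (p : PrimeSpectrum O).asIdeal
    exact ⟨p', by rw [Scheme.Hom.comp_apply, hp']⟩
  obtain ⟨x', hx'X, hx'S⟩ := Scheme.Pullback.exists_preimage_pullback (f := f) (g := k) x (IsLocalRing.closedPoint S) hk.symm
  let p := pullback.fst f k
  let q := pullback.snd f k
  haveI : IsLocallyNoetherian (Spec S) := inferInstance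
  haveI : LocallyOfFinitePresentation q := H18HTop.locallyOfFinitePresentation_of_noetherian q
  have hfp : ∀ z, f (p z) = k (q z) := fun z => by
    rw [← Scheme.Hom.comp_apply, pullback.condition, Scheme.Hom.comp_apply]
  have hloc : x' ∈ Locus q := mem_locus_pullback f k x' (hx'X ▸ hint)
  have hopen' : ∀ z : ↥(q.fiber (q.base x')), q.asFiber x' ∈ closure {z} →
      (∀ z' : ↥(q.fiber (q.base x')), z ∈ closure {z'} → z' = z) →
      EGA43.IsUnivOpenAt q ((q.fiberι (q.base x')).base z) := by
    intro z hz hmax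
    let ζ := q.fiberι (q x') z
    have hζq : q ζ = q x' := (q.range_fiberι (q x')).le (Set.mem_range_self z)
    have hfz : f (p ζ) = f x := by rw [hfp, hζq, ← hfp, show p x' = x from hx'X]
    obtain ⟨v, hv⟩ := (f.range_fiberι (f x)).ge (show p ζ ∈ f ⁻¹' {f x} from hfz)
    have hmaxp := H06FlatVal.maximal_fst_of_maximal f k ζ (fun z' h3 h4 => by
      obtain ⟨u, hu⟩ := (q.range_fiberι (q x')).ge (show z' ∈ q ⁻¹' {q x'} from h3.trans hζq)
      have h5 : q.fiberι (q x') u ⤳ q.fiberι (q x') z := (specializes_of_eq hu).trans h4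
      rw [(q.fiberι _).isEmbedding.specializes_iff] at h5
      rw [← hu, hmax u h5.mem_closure])
    refine H06EGA14.isUnivOpenAt_of_isPullback ?_ (IsPullback.of_hasPullback f k) ζ rfl
    rw [← hv]
    refine hopen v ?_ (fun v' hv' => ?_)
    · refine ((f.fiberι (f x)).isEmbedding.isInducing.specializes_iff.mp ?_).mem_closure
      rw [hv, f.fiberι_asFiber]
      have h6 := ((specializes_iff_mem_closure.mpr hz).map (q.fiberι (q x')).continuous).map p.continuous
      rw [q.fiberι_asFiber] at h6
      exact hx'X ▸ h6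
    · refine (f.fiberι (f x)).isEmbedding.injective ((hmaxp (f.fiberι (f x) v') ?_ ?_).trans hv.symm)
      · rw [(f.range_fiberι (f x)).le (Set.mem_range_self v'), hfz]
      · have := (specializes_iff_mem_closure.mpr hv').map (f.fiberι (f x)).continuous
        rwa [hv] at this
  have hflat : (q.stalkMap x').hom.Flat := by
    refine S2561.result q x' hopen' (isGeomReducedAt_of_mem_locus q hloc) ?_
    exact isReduced_of_injective (Spec.stalkIso S (q x')).commRingCatIsoToRingEquiv.toRingHom
      (Spec.stalkIso S (q x')).commRingCatIsoToRingEquiv.injective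
  have huni : ∀ (Ω : Type u) [Field Ω] (χ₁ χ₂ : integralClosure S (FractionRing S) →+* Ω),
      χ₁.comp (algebraMap S (integralClosure S (FractionRing S))) =
        χ₂.comp (algebraMap S (integralClosure S (FractionRing S))) →
      RingHom.ker (χ₁.comp (algebraMap S (integralClosure S (FractionRing S)))) = IsLocalRing.maximalIdeal S →
      χ₁ = χ₂ := by
    intro Ω _ χ₁ χ₂ he hker
    refine H06EGA14.eq_of_comp_eq_of_isGeomUnibranch hY χ₁ χ₂
      ((χ₁.comp (algebraMap S (integralClosure S (FractionRing S)))).comp (Ideal.Quotient.mk (nilradical O))) ?_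
      (fun a => rfl) (fun a => (RingHom.congr_fun he (Ideal.Quotient.mk _ a)).symm)
    rw [← RingHom.comap_ker, hker]
    exact IsLocalRing.maximalIdeal_comap (Ideal.Quotient.mk (nilradical O))
  obtain ⟨w, hw, hleast⟩ := exists_least_generization_local huni q x' hx'S hflat hloc
  refine ⟨p w, hx'X ▸ hw.map p.continuous, fun z hz => ?_⟩
  obtain ⟨s, hs⟩ := hrange (f z) (hz.map f.continuous)
  obtain ⟨z', hz'X, -⟩ := Scheme.Pullback.exists_preimage_pullback (f := f) (g := k) z s hs.symm
  haveI : IsPreimmersion p := inferInstanceAs (IsPreimmersion (pullback.fst f k))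
  have hz' : z' ⤳ x' := p.isEmbedding.specializes_iff.1 (by rw [hz'X, show p x' = x from hx'X]; exact hz)
  exact hz'X ▸ (hleast z' hz').map p.continuous

/-- A reduced local ring of a point with a least generization is a domain. -/
theorem isDomain_stalk_of_least (x : X) [_root_.IsReduced (X.presheaf.stalk x)] {w : X} (hw : w ⤳ x)
    (h : ∀ z, z ⤳ x → w ⤳ z) : IsDomain (X.presheaf.stalk x) := by
  obtain ⟨P₀, hP₀⟩ := (Scheme.range_fromSpecStalk (X := X) (x := x)).ge hw
  let P₀' : PrimeSpectrum (X.presheaf.stalk x) := P₀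
  have hle : ∀ P : PrimeSpectrum (X.presheaf.stalk x), P₀'.asIdeal ≤ P.asIdeal := by
    intro P
    refine (PrimeSpectrum.le_iff_specializes P₀' P).2 ((X.fromSpecStalk x).isEmbedding.specializes_iff.1 ?_)
    exact (specializes_of_eq hP₀).trans (h _ ((Scheme.range_fromSpecStalk (X := X) (x := x)).le ⟨P, rfl⟩))
  haveI : (⊥ : Ideal (X.presheaf.stalk x)).IsPrime := by
    have h1 : P₀'.asIdeal = ⊥ := by
      refine le_bot_iff.1 ?_
      rw [← Ideal.zero_eq_bot, ← nilradical_eq_zero (X.presheaf.stalk x), nilradical_eq_sInf]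
      exact le_sInf fun J hJ => hle ⟨J, hJ⟩
    exact h1 ▸ P₀'.isPrime
  exact IsDomain.of_bot_isPrime _

/-- A least generization singles out one irreducible component. -/
theorem existsUnique_component_of_least {x w : X} (hw : w ⤳ x) (h : ∀ z, z ⤳ x → w ⤳ z) :
    ∃! Z : Set X, Z ∈ irreducibleComponents (X : Type u) ∧ x ∈ Z := by
  have key : ∀ Z ∈ irreducibleComponents (X : Type u), x ∈ Z → Z = closure {w} := by
    intro Z hZ hxZ
    have hcl := isClosed_of_mem_irreducibleComponents Z hZ
    have hg := hZ.1.isGenericPoint_genericPoint hcl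
    have h1 : Z ⊆ closure {w} := by
      rw [← hg.def]
      exact closure_minimal (Set.singleton_subset_iff.2 (h _ (hg.specializes hxZ)).mem_closure) isClosed_closure
    exact Set.Subset.antisymm h1 (hZ.2 isIrreducible_singleton.closure h1)
  exact ⟨irreducibleComponent x, ⟨irreducibleComponent_mem_irreducibleComponents x, mem_irreducibleComponent⟩,
    fun Z hZ => (key Z hZ.1 hZ.2).trans
      (key _ (irreducibleComponent_mem_irreducibleComponents x) mem_irreducibleComponent).symm⟩

end Groth.Agent.H06GeomInt
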